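import Cfsg.Agent.Lib.SolvClasses.Pairing
import Cfsg.Agent.Lib.PermClasses.TwoPow
import Cfsg.Agent.Lib.Cores.Fitting

/-!
# Soluble linear groups: the step for a system of subspaces permuted by the group

* `QBound`: the statement proved by induction on the dimension;
* `bound_of_decomposition`: the step;
* `exists_decomposition`: an abelian normal subgroup that is not scalar gives such a system.
-/

set_option autoImplicit false

noncomputable section

namespace CfsgLib.SolvClasses

open Module Cfsg CfsgLib.Cores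

/-- The induction statement in dimension less than `n`. -/
def Below (n : ℕ) : Prop :=
  ∀ (G : Type) [Group G] [Finite G] (V : Type) [AddCommGroup V] [Module ℂ V] [FiniteDimensional ℂ V]
    (ρ : G →* Module.End ℂ V) [(fittingSubgroup G).Normal], Group.IsSolvable G → Function.Injective ρ →
      1 ≤ finrank ℂ V → finrank ℂ V < n → SubBound (G ⧸ fittingSubgroup G) (3 ^ (finrank ℂ V - 1))

variable {G : Type} [Group G] [Finite G] {V : Type} [AddCommGroup V] [Module ℂ V] [FiniteDimensional ℂ V]

theorem map_map_rho (ρ : G →* Module.End ℂ V) (g h : G) (U : Submodule ℂ V) :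
    (U.map (ρ h)).map (ρ g) = U.map (ρ (g * h)) := by
  rw [map_mul, Module.End.mul_eq_comp, Submodule.map_comp]

theorem subBound_perm {ι : Type*} [Fintype ι] [DecidableEq ι] :
    SubBound (Equiv.Perm ι) (2 ^ (Fintype.card ι - 1)) :=
  fun S => CfsgLib.PermClasses.card_conjClasses_le S

theorem bound_of_decomposition {n : ℕ} (ih : Below n) (ρ : G →* Module.End ℂ V) [(fittingSubgroup G).Normal]
    [Group.IsSolvable G] (hinj : Function.Injective ρ) (hn : finrank ℂ V ≤ n)
    {ι : Type} [Fintype ι] [DecidableEq ι] (U : ι → Submodule ℂ V)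
    (hint : DirectSum.IsInternal U) (hne : ∀ i, U i ≠ ⊥) (hι : 1 < Fintype.card ι)
    (hperm : ∀ g i, ∃ j, (U i).map (ρ g) = U j) :
    SubBound (G ⧸ fittingSubgroup G) (3 ^ (finrank ℂ V - 1)) := by
  classical
  have hUinj : Function.Injective U := hint.submodule_iSupIndep.injective hne
  choose s hs using hperm
  have hs1 : ∀ i, s 1 i = i := fun i => hUinj (by rw [← hs, map_one, Module.End.one_eq_id, Submodule.map_id])
  have hsmul : ∀ g h i, s (g * h) i = s g (s h i) := fun g h i =>
    hUinj (by rw [← hs, ← map_map_rho, hs, hs])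
  let σ : G →* Equiv.Perm ι :=
    { toFun := fun g => ⟨s g, s g⁻¹, fun i => by rw [← hsmul, inv_mul_cancel, hs1],
        fun i => by rw [← hsmul, mul_inv_cancel, hs1]⟩
      map_one' := Equiv.ext hs1
      map_mul' := fun g h => Equiv.ext (hsmul g h) }
  set K : Subgroup G := σ.ker with hK
  have hmaps : ∀ (x : K) (i : ι), ∀ v ∈ U i, ρ (x : G) v ∈ U i := by
    intro x i v hv
    have h1 : s (x : G) i = i := DFunLike.congr_fun (MonoidHom.mem_ker.1 x.2) i
    have h2 := hs (x : G) i
    rw [h1] at h2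
    exact h2.le (Submodule.mem_map_of_mem hv)
  let r : (i : ι) → K →* Module.End ℂ (U i) := fun i =>
    { toFun := fun x => (ρ (x : G)).restrict (hmaps x i)
      map_one' := LinearMap.ext fun v => Subtype.ext (by simp [LinearMap.restrict_apply])
      map_mul' := fun x y => LinearMap.ext fun v => Subtype.ext (by simp [LinearMap.restrict_apply]) }
  let ru : (i : ι) → K →* (Module.End ℂ (U i))ˣ := fun i => (r i).toHomUnits
  let Q : ι → Type := fun i => K ⧸ (ru i).ker
  let τ : (i : ι) → Q i →* Module.End ℂ (U i) := fun i => (Units.coeHom _).comp (QuotientGroup.kerLift (ru i))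
  have hτ : ∀ i, Function.Injective (τ i) := fun i =>
    Units.val_injective.comp (QuotientGroup.kerLift_injective (ru i))
  have hd1 : ∀ i, 1 ≤ finrank ℂ (U i) := fun i => by
    rw [Submodule.one_le_finrank_iff]
    exact hne i
  have hsum : ∑ i, finrank ℂ (U i) = finrank ℂ V := by
    rw [← Module.finrank_directSum ℂ (fun i => U i)]
    exact LinearEquiv.finrank_eq (LinearEquiv.ofBijective (DirectSum.coeLinearMap U) hint)
  have hdlt : ∀ i, finrank ℂ (U i) < n := by
    intro i
    obtain ⟨j, hj⟩ := Fintype.exists_ne_of_one_lt_card hι i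
    have h2 : finrank ℂ (U i) + finrank ℂ (U j) ≤ ∑ l, finrank ℂ (U l) := by
      refine (Finset.sum_pair (f := fun l => finrank ℂ (U l)) hj.symm).symm.trans_le ?_
      exact Finset.sum_le_sum_of_subset (Finset.subset_univ _)
    have := hd1 j
    omega
  have : ∀ i, (fittingSubgroup (Q i)).Normal := fun i => fittingSubgroup_normal
  have hb : ∀ i, SubBound (Q i ⧸ fittingSubgroup (Q i)) (3 ^ (finrank ℂ (U i) - 1)) := fun i =>
    ih (Q i) (U i) (τ i) (inferInstance) (hτ i) (hd1 i) (hdlt i)
  let φ : K →* ∀ i, Q i ⧸ fittingSubgroup (Q i) :=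
    Pi.monoidHom fun i => (QuotientGroup.mk' (fittingSubgroup (Q i))).comp (QuotientGroup.mk' (ru i).ker)
  have hmem : ∀ (x : φ.ker) (i : ι), QuotientGroup.mk' (ru i).ker (x : K) ∈ fittingSubgroup (Q i) :=
    fun x i => (QuotientGroup.eq_one_iff _).1 (congrFun (MonoidHom.mem_ker.1 x.2) i)
  let ψ : φ.ker →* ∀ i, fittingSubgroup (Q i) :=
    Pi.monoidHom fun i => ((QuotientGroup.mk' (ru i).ker).comp φ.ker.subtype).codRestrict _ fun x => hmem x i
  have hψ : Function.Injective ψ := by
    rw [← MonoidHom.ker_eq_bot_iff, Subgroup.eq_bot_iff_forall]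
    intro x hx
    have hfix : ∀ i, ∀ v ∈ U i, ρ ((x : K) : G) v = v := by
      intro i v hv
      have h1 : QuotientGroup.mk' (ru i).ker (x : K) = 1 := congrArg Subtype.val (congrFun (MonoidHom.mem_ker.1 hx) i)
      have h2 := MonoidHom.mem_ker.1 ((QuotientGroup.eq_one_iff _).1 h1)
      have h3 : r i (x : K) = 1 := congrArg Units.val h2
      exact congrArg Subtype.val (LinearMap.congr_fun h3 ⟨v, hv⟩)
    have h4 : ρ ((x : K) : G) = 1 := by
      refine LinearMap.ext fun v => ?_
      have hv : v ∈ ⨆ i, U i := hint.submodule_iSup_eq_top ▸ Submodule.mem_top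
      induction hv using Submodule.iSup_induction' with
      | mem i w hw => exact hfix i w hw
      | zero => simp
      | add a b _ _ ha hb => rw [map_add, ha, hb, map_add]
    exact Subtype.ext (Subtype.ext (hinj (h4.trans (map_one ρ).symm)))
  have hNF : φ.ker ≤ fittingSubgroup K := by
    have : ∀ i, Group.IsNilpotent (fittingSubgroup (Q i)) := fun i => isNilpotent_fittingSubgroup
    refine le_fittingSubgroup ?_
    exact Group.nilpotent_of_mulEquiv (MonoidHom.ofInjective hψ).symm
  have : (fittingSubgroup K).Normal := fittingSubgroup_normal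
  have hKb : SubBound (K ⧸ fittingSubgroup K) (∏ i, 3 ^ (finrank ℂ (U i) - 1)) := by
    refine ((SubBound.pi_fintype hb).of_injective (QuotientGroup.kerLift_injective φ)).of_surjective
      (f := QuotientGroup.map φ.ker (fittingSubgroup K) (MonoidHom.id K) hNF) ?_
    intro y
    obtain ⟨x, rfl⟩ := QuotientGroup.mk'_surjective _ y
    exact ⟨QuotientGroup.mk x, rfl⟩
  set N : Subgroup G := (fittingSubgroup K).map K.subtype with hN
  have : N.Normal := map_subtype_fittingSubgroup_normal K
  have hNG : N ≤ fittingSubgroup G := map_subtype_fittingSubgroup_le_of_normal K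
  have hσN : ∀ x ∈ N, σ x = 1 := fun x hx => MonoidHom.mem_ker.1 ((Subgroup.map_subtype_le _) hx)
  let σb : G ⧸ N →* Equiv.Perm ι := QuotientGroup.lift N σ hσN
  let κ : K ⧸ fittingSubgroup K →* σb.ker :=
    QuotientGroup.lift (fittingSubgroup K)
      (((QuotientGroup.mk' N).comp K.subtype).codRestrict σb.ker fun x =>
        MonoidHom.mem_ker.2 (MonoidHom.mem_ker.1 x.2))
      fun x hx => Subtype.ext ((QuotientGroup.eq_one_iff _).2 ⟨x, hx, rfl⟩)
  have hκ : Function.Surjective κ := by
    rintro ⟨y, hy⟩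
    obtain ⟨g, rfl⟩ := QuotientGroup.mk'_surjective N y
    exact ⟨QuotientGroup.mk ⟨g, MonoidHom.mem_ker.2 (MonoidHom.mem_ker.1 hy)⟩, rfl⟩
  have hG : SubBound (G ⧸ N) ((∏ i, 3 ^ (finrank ℂ (U i) - 1)) * 2 ^ (Fintype.card ι - 1)) :=
    SubBound.extension σb (hKb.of_surjective hκ) subBound_perm
  refine (hG.of_surjective (f := QuotientGroup.map N (fittingSubgroup G) (MonoidHom.id G) hNG) ?_).mono ?_
  · intro y
    obtain ⟨x, rfl⟩ := QuotientGroup.mk'_surjective _ y
    exact ⟨QuotientGroup.mk x, rfl⟩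
  · rw [Finset.prod_pow_eq_pow_sum]
    refine le_trans (Nat.mul_le_mul_left _ (Nat.pow_le_pow_left (by norm_num : 2 ≤ 3) _)) ?_
    rw [← pow_add]
    refine Nat.pow_le_pow_right (by norm_num) ?_
    have h2 : ∑ i, (finrank ℂ (U i) - 1) + Fintype.card ι = finrank ℂ V := by
      rw [← hsum, ← Finset.card_univ, Finset.card_eq_sum_ones, ← Finset.sum_add_distrib]
      exact Finset.sum_congr rfl fun i _ => Nat.sub_add_cancel (hd1 i)
    omega

omit [Finite G] in
theorem isSemisimple_rho [Finite G] (ρ : G →* Module.End ℂ V) (g : G) : (ρ g).IsSemisimple := by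
  have h0 : 0 < Nat.card G := Nat.card_pos
  refine Module.End.isSemisimple_of_squarefree_aeval_eq_zero
    (p := Polynomial.X ^ Nat.card G - Polynomial.C (1 : ℂ)) ?_ ?_
  · exact (Polynomial.separable_X_pow_sub_C 1 (Nat.cast_ne_zero.2 h0.ne') one_ne_zero).squarefree
  · rw [map_sub, Polynomial.aeval_C, map_one, sub_eq_zero, map_pow, Polynomial.aeval_X, ← map_pow,
      pow_card_eq_one', map_one]

/-- Either an abelian normal subgroup consists of scalars or it gives a system of subspaces. -/
theorem exists_decomposition (ρ : G →* Module.End ℂ V) (A : Subgroup G) [A.Normal]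
    (hA : ∀ a ∈ A, ∀ b ∈ A, a * b = b * a) (hns : ¬ ∀ a ∈ A, ∃ c : ℂ, ρ a = c • (1 : Module.End ℂ V)) :
    ∃ (ι : Type) (_ : Fintype ι) (_ : DecidableEq ι) (U : ι → Submodule ℂ V),
      DirectSum.IsInternal U ∧ (∀ i, U i ≠ ⊥) ∧ 1 < Fintype.card ι ∧
        ∀ g i, ∃ j, (U i).map (ρ g) = U j := by
  classical
  let f : A → Module.End ℂ V := fun a => ρ (a : G)
  have hcomm : ∀ a b : A, Commute (f a) (f b) := fun a b => (show Commute (a : G) b from hA a a.2 b b.2).map ρ
  have hss : ∀ a, (f a).IsFinitelySemisimple := fun a => (isSemisimple_rho ρ _).isFinitelySemisimple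
  let W : (A → ℂ) → Submodule ℂ V := fun χ => ⨅ a, (f a).eigenspace (χ a)
  have hWeq : W = fun χ => ⨅ a, (f a).maxGenEigenspace (χ a) := by
    funext χ
    simp only [W, fun a => (hss a).maxGenEigenspace_eq_eigenspace (χ a)]
  have hind : iSupIndep W := by
    rw [hWeq]
    exact Module.End.independent_iInf_maxGenEigenspace_of_forall_mapsTo _
      fun i j φ => Module.End.mapsTo_maxGenEigenspace_of_comm (hcomm j i) φ
  have htop : ⨆ χ, W χ = ⊤ := by
    rw [hWeq]
    refine Module.End.iSup_iInf_maxGenEigenspace_eq_top_of_iSup_maxGenEigenspace_eq_top_of_commute f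
      (fun a b _ => hcomm a b) fun a => ?_
    exact Module.End.iSup_maxGenEigenspace_eq_top (f a)
  let ι := {χ : A → ℂ // W χ ≠ ⊥}
  have hW0 : ∀ χ, W χ ≠ ⊥ → ∀ v ∈ W χ, ∀ a : A, ρ (a : G) v = χ a • v := fun χ _ v hv a =>
    Module.End.mem_eigenspace_iff.1 ((Submodule.mem_iInf _).1 hv a)
  let : Fintype ι := iSupIndep.fintypeNeBotOfFiniteDimensional hind
  have hindι : iSupIndep fun i : ι => W i.1 := hind.comp Subtype.val_injective
  have htopι : ⨆ i : ι, W i.1 = ⊤ := by
    rw [← htop]
    exact iSup_ne_bot_subtype W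
  have hint : DirectSum.IsInternal fun i : ι => W i.1 :=
    (DirectSum.isInternal_submodule_iff_iSupIndep_and_iSup_eq_top _).2 ⟨hindι, htopι⟩
  refine ⟨ι, inferInstance, inferInstance, fun i => W i.1, hint, fun i => i.2, ?_, ?_⟩
  · rw [Fintype.one_lt_card_iff_nontrivial]
    by_contra hnt
    rw [not_nontrivial_iff_subsingleton] at hnt
    refine hns fun a ha => ?_
    rcases isEmpty_or_nonempty ι with he | ⟨⟨i⟩⟩
    · refine ⟨1, LinearMap.ext fun v => ?_⟩
      have hv : v = 0 := by
        have : v ∈ ⨆ i : ι, W i.1 := htopι ▸ Submodule.mem_top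
        simpa [iSup_of_empty] using this
      simp [hv]
    · refine ⟨i.1 ⟨a, ha⟩, LinearMap.ext fun v => ?_⟩
      have hv : v ∈ W i.1 := by
        have h1 : v ∈ ⨆ j : ι, W j.1 := htopι ▸ Submodule.mem_top
        have h2 : ⨆ j : ι, W j.1 ≤ W i.1 := iSup_le fun j => by rw [Subsingleton.elim j i]
        exact h2 h1
      simpa using hW0 i.1 i.2 v hv ⟨a, ha⟩
  · intro g i
    let cg : A → A := fun a => ⟨g⁻¹ * a * g, by simpa using (inferInstance : A.Normal).conj_mem a a.2 g⁻¹⟩
    let χ' : A → ℂ := fun a => i.1 (cg a)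
    have hle : ∀ (h : G) (χ : A → ℂ) (χ₂ : A → ℂ),
        (∀ a : A, ∀ b : A, (b : G) = h⁻¹ * a * h → χ₂ a = χ b) → (W χ).map (ρ h) ≤ W χ₂ := by
      intro h χ χ₂ hrel
      rintro _ ⟨v, hv, rfl⟩
      refine (Submodule.mem_iInf _).2 fun a => Module.End.mem_eigenspace_iff.2 ?_
      have hb : h⁻¹ * (a : G) * h ∈ A := by simpa using (inferInstance : A.Normal).conj_mem a a.2 h⁻¹
      have h1 := Module.End.mem_eigenspace_iff.1 ((Submodule.mem_iInf _).1 hv ⟨_, hb⟩)
      have h2 := congrArg (ρ h) h1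
      rw [map_smul, ← Module.End.mul_apply, ← map_mul] at h2
      rw [hrel a ⟨_, hb⟩ rfl, ← Module.End.mul_apply, ← map_mul,
        show (a : G) * h = h * (h⁻¹ * a * h) by group]
      exact h2
    have h1 : (W i.1).map (ρ g) ≤ W χ' := hle g i.1 χ' fun a b hb => congrArg i.1 (Subtype.ext hb.symm)
    have h2 : (W χ').map (ρ g⁻¹) ≤ W i.1 :=
      hle g⁻¹ χ' i.1 fun a b hb => congrArg i.1 (Subtype.ext (by simp [cg, hb, mul_assoc]))
    have hinv : ∀ v : V, ρ g (ρ g⁻¹ v) = v := fun v => by
      rw [← Module.End.mul_apply, ← map_mul, mul_inv_cancel, map_one, Module.End.one_apply]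
    have hinv' : ∀ v : V, ρ g⁻¹ (ρ g v) = v := fun v => by
      rw [← Module.End.mul_apply, ← map_mul, inv_mul_cancel, map_one, Module.End.one_apply]
    refine ⟨⟨χ', fun h0 => i.2 (le_bot_iff.1 fun v hv => ?_)⟩, le_antisymm h1 fun v hv => ?_⟩
    · have h3 : ρ g v ∈ W χ' := h1 (Submodule.mem_map_of_mem hv)
      rw [h0, Submodule.mem_bot] at h3
      rw [Submodule.mem_bot, ← hinv' v, h3, map_zero]
    · exact ⟨ρ g⁻¹ v, h2 (Submodule.mem_map_of_mem hv), hinv v⟩

end CfsgLib.SolvClasses
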