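import Mathlib

/-!
# Elementary bounds for the number of conjugacy classes

* `card_le_mul`: `k(G) ≤ k(N) k(G / N)`;
* `card_le_index_mul`: `k(G) ≤ [G : H] k(H)`;
* `SubBound`: every subgroup of the group has at most `b` classes.
-/

set_option autoImplicit false

namespace CfsgLib.SolvClasses

open Finset

/-- The number of conjugacy classes. -/
noncomputable abbrev k (G : Type*) [Group G] : ℕ := Nat.card (ConjClasses G)

variable {G : Type*} [Group G] [Finite G]

theorem k_pos : 0 < k G := Nat.card_pos

theorem k_le_card : k G ≤ Nat.card G :=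
  Nat.card_le_card_of_surjective _ ConjClasses.mk_surjective

/-- The commuting pairs, as a sum. -/
theorem sum_centralizer [Fintype G] :
    ∑ g : G, Nat.card {h : G // Commute g h} = k G * Nat.card G := by
  rw [← card_comm_eq_card_conjClasses_mul_card, ← Nat.card_sigma]
  exact Nat.card_congr ((Equiv.subtypeProdEquivSigmaSubtype fun a b : G => Commute a b).symm)

theorem card_coset_commute_le (N : Subgroup G) (g : G) (c : G ⧸ N) :
    Nat.card {h : G // Commute g h ∧ (h : G ⧸ N) = c} ≤ Nat.card {n : N // Commute g n} := by
  rcases isEmpty_or_nonempty {h : G // Commute g h ∧ (h : G ⧸ N) = c} with he | ⟨⟨h₀, hg₀, hc₀⟩⟩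
  · simp
  refine Nat.card_le_card_of_injective
    (fun h => ⟨⟨h₀⁻¹ * h.1, QuotientGroup.eq.1 (hc₀.trans h.2.2.symm)⟩, hg₀.inv_right.mul_right h.2.1⟩) ?_
  intro a b hab
  have := congrArg (fun x : {n : N // Commute g n} => (x.1 : G)) hab
  exact Subtype.ext (mul_left_cancel this)

theorem card_le_mul (N : Subgroup G) [N.Normal] : k G ≤ k N * k (G ⧸ N) := by
  classical
  let : Fintype G := Fintype.ofFinite G
  let : Fintype N := Fintype.ofFinite N
  let : Fintype (G ⧸ N) := Fintype.ofFinite _
  refine Nat.le_of_mul_le_mul_right (c := Nat.card G) ?_ Nat.card_pos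
  have hcard : Nat.card G = Nat.card (G ⧸ N) * Nat.card N := Subgroup.card_eq_card_quotient_mul_card_subgroup N
  calc k G * Nat.card G = ∑ g : G, Nat.card {h : G // Commute g h} := sum_centralizer.symm
    _ ≤ ∑ g : G, Nat.card {d : G ⧸ N // Commute (g : G ⧸ N) d} * Nat.card {n : N // Commute g n} := by
        refine Finset.sum_le_sum fun g _ => ?_
        let f : {h : G // Commute g h} → {d : G ⧸ N // Commute (g : G ⧸ N) d} :=
          fun h => ⟨(h.1 : G ⧸ N), h.2.map (QuotientGroup.mk' N)⟩
        rw [← Nat.card_congr (Equiv.sigmaFiberEquiv f), Nat.card_sigma]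
        refine (Finset.sum_le_sum (g := fun _ => Nat.card {n : N // Commute g n}) fun d _ => ?_).trans (by simp)
        refine le_trans ?_ (card_coset_commute_le N g d.1)
        exact Nat.card_le_card_of_injective (fun h => ⟨h.1.1, h.1.2, congrArg Subtype.val h.2⟩)
          fun a b hab => Subtype.ext (Subtype.ext (congrArg (fun x => x.1) hab))
    _ = ∑ c : G ⧸ N, Nat.card {d : G ⧸ N // Commute c d} *
          ∑ g ∈ univ.filter (fun g : G => (g : G ⧸ N) = c), Nat.card {n : N // Commute g n} := by
        rw [← Finset.sum_fiberwise univ (fun g : G => (g : G ⧸ N))]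
        refine Finset.sum_congr rfl fun c _ => ?_
        rw [Finset.mul_sum]
        exact Finset.sum_congr rfl fun g hg => by rw [(Finset.mem_filter.1 hg).2]
    _ ≤ ∑ c : G ⧸ N, Nat.card {d : G ⧸ N // Commute c d} * (k N * Nat.card N) := by
        refine Finset.sum_le_sum fun c _ => Nat.mul_le_mul_left _ ?_
        rw [← sum_centralizer (G := N)]
        calc ∑ g ∈ univ.filter (fun g : G => (g : G ⧸ N) = c), Nat.card {n : N // Commute g n}
            = ∑ g ∈ univ.filter (fun g : G => (g : G ⧸ N) = c), ∑ n : N, (if Commute g n then 1 else 0) := by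
              refine Finset.sum_congr rfl fun g _ => ?_
              rw [Nat.card_eq_fintype_card, Fintype.card_subtype, Finset.card_filter]
          _ = ∑ n : N, Nat.card {g : G // Commute (n : G) g ∧ (g : G ⧸ N) = c} := by
              rw [Finset.sum_comm]
              refine Finset.sum_congr rfl fun n _ => ?_
              rw [Nat.card_eq_fintype_card, Fintype.card_subtype, Finset.sum_boole, Finset.filter_filter]
              simp only [Nat.cast_id]
              congr 1
              ext g
              simp [and_comm, Commute.symm_iff (a := g)]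
          _ ≤ ∑ n : N, Nat.card {m : N // Commute n m} := by
              refine Finset.sum_le_sum fun n _ => (card_coset_commute_le N n c).trans (le_of_eq ?_)
              exact Nat.card_congr (Equiv.subtypeEquivRight fun m =>
                ⟨fun h => Subtype.ext h, fun h => congrArg Subtype.val h⟩)
    _ = k N * k (G ⧸ N) * Nat.card G := by
        rw [← Finset.sum_mul, sum_centralizer, hcard]
        ring

theorem card_le_index_mul (H : Subgroup G) : k G ≤ H.index * k H := by
  classical
  let : Fintype G := Fintype.ofFinite G
  let : Fintype H := Fintype.ofFinite H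
  let : Fintype (G ⧸ H) := Fintype.ofFinite _
  refine Nat.le_of_mul_le_mul_right (c := Nat.card G) ?_ Nat.card_pos
  have hb : ∀ g : G, Nat.card {h : G // Commute g h} ≤ H.index * Nat.card {n : H // Commute g n} := by
    intro g
    rw [← Nat.card_congr (Equiv.sigmaFiberEquiv fun h : {h : G // Commute g h} => (h.1 : G ⧸ H)), Nat.card_sigma]
    refine (Finset.sum_le_sum (g := fun _ => Nat.card {n : H // Commute g n}) fun d _ => ?_).trans
      (le_of_eq (by simp [Subgroup.index, Nat.card_eq_fintype_card]))
    refine le_trans ?_ (card_coset_commute_le H g d)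
    exact Nat.card_le_card_of_injective (fun h => ⟨h.1.1, h.1.2, h.2⟩)
      fun a b hab => Subtype.ext (Subtype.ext (congrArg (fun x => x.1) hab))
  calc k G * Nat.card G = ∑ g : G, Nat.card {h : G // Commute g h} := sum_centralizer.symm
    _ ≤ H.index * ∑ g : G, Nat.card {n : H // Commute g n} := by
        rw [Finset.mul_sum]
        exact Finset.sum_le_sum fun g _ => hb g
    _ = H.index * ∑ n : H, Nat.card {g : G // Commute (n : G) g} := by
        congr 1
        simp only [Nat.card_eq_fintype_card, Fintype.card_subtype, Finset.card_filter]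
        rw [Finset.sum_comm]
        exact Finset.sum_congr rfl fun n _ => Finset.sum_congr rfl fun g _ => if_congr ⟨Commute.symm, Commute.symm⟩ rfl rfl
    _ ≤ H.index * ∑ n : H, H.index * Nat.card {m : H // Commute (n : G) (m : G)} :=
        Nat.mul_le_mul_left _ (Finset.sum_le_sum fun n _ => hb n)
    _ = H.index * k H * Nat.card G := by
        have he : ∀ n : H, Nat.card {m : H // Commute (n : G) (m : G)} = Nat.card {m : H // Commute n m} :=
          fun n => Nat.card_congr (Equiv.subtypeEquivRight fun m =>
            ⟨fun h => Subtype.ext h, fun h => congrArg Subtype.val h⟩)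
        simp only [he]
        rw [← Finset.mul_sum, sum_centralizer, ← H.card_mul_index]
        ring

theorem k_congr {H : Type*} [Group H] [Finite H] (e : G ≃* H) : k G = k H := by
  refine le_antisymm (Nat.card_le_card_of_surjective (ConjClasses.map e.symm.toMonoidHom)
    (ConjClasses.map_surjective e.symm.surjective)) (Nat.card_le_card_of_surjective (ConjClasses.map e.toMonoidHom)
    (ConjClasses.map_surjective e.surjective))

theorem k_le_of_surjective {H : Type*} [Group H] {f : G →* H} (hf : Function.Surjective f) : k H ≤ k G :=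
  Nat.card_le_card_of_surjective (ConjClasses.map f) (ConjClasses.map_surjective hf)

/-- Every subgroup has at most `b` conjugacy classes. -/
def SubBound (G : Type*) [Group G] (b : ℕ) : Prop := ∀ H : Subgroup G, k H ≤ b

theorem SubBound.k_le {b : ℕ} (h : SubBound G b) : k G ≤ b :=
  (k_congr (Subgroup.topEquiv (G := G))).symm.trans_le (h ⊤)

theorem SubBound.mono {b c : ℕ} (h : SubBound G b) (hbc : b ≤ c) : SubBound G c :=
  fun H => (h H).trans hbc

theorem SubBound.of_injective {H : Type*} [Group H] [Finite H] {b : ℕ} (hG : SubBound G b) {f : H →* G}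
    (hf : Function.Injective f) : SubBound H b :=
  fun K => (k_congr (K.equivMapOfInjective f hf)).trans_le (hG _)

theorem SubBound.of_surjective {H : Type*} [Group H] [Finite H] {b : ℕ} (hG : SubBound G b) {f : G →* H}
    (hf : Function.Surjective f) : SubBound H b := by
  intro K
  refine le_trans (k_le_of_surjective (f := f.subgroupComap K) ?_) (hG _)
  rintro ⟨y, hy⟩
  obtain ⟨x, rfl⟩ := hf y
  exact ⟨⟨x, hy⟩, rfl⟩

theorem SubBound.extension {H : Type*} [Group H] [Finite H] {a b : ℕ} (f : G →* H) (hk : SubBound f.ker a)
    (hr : SubBound H b) : SubBound G (a * b) := by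
  intro K
  let g : K →* H := f.comp K.subtype
  refine (card_le_mul g.ker).trans (Nat.mul_le_mul ?_ ?_)
  · let i : g.ker →* f.ker := ((K.subtype.comp g.ker.subtype).codRestrict f.ker fun x => x.2)
    have hi : Function.Injective i := fun x y h =>
      Subtype.ext (Subtype.ext (congrArg (fun z : f.ker => (z : G)) h))
    exact (hk.of_injective hi).k_le
  · exact (k_congr (QuotientGroup.quotientKerEquivRange g)).trans_le (hr _)

theorem SubBound.prod {H : Type*} [Group H] [Finite H] {a b : ℕ} (hG : SubBound G a) (hH : SubBound H b) :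
    SubBound (G × H) (a * b) := by
  have hk : SubBound (MonoidHom.snd G H).ker a := by
    refine hG.of_injective (f := (MonoidHom.fst G H).comp (MonoidHom.snd G H).ker.subtype) ?_
    rintro ⟨⟨x, y⟩, hy⟩ ⟨⟨x', y'⟩, hy'⟩ h
    exact Subtype.ext (Prod.ext h ((MonoidHom.mem_ker.1 hy).trans (MonoidHom.mem_ker.1 hy').symm))
  exact SubBound.extension (MonoidHom.snd G H) hk hH

omit [Finite G] in
theorem SubBound.one_of_subsingleton [Subsingleton G] : SubBound G 1 :=
  fun _ => Finite.card_le_one_iff_subsingleton.2 (Quotient.instSubsingletonQuotient _)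

theorem SubBound.pi : ∀ {n : ℕ} {X : Fin n → Type*} [∀ i, Group (X i)] [∀ i, Finite (X i)] {b : Fin n → ℕ},
    (∀ i, SubBound (X i) (b i)) → SubBound (∀ i, X i) (∏ i, b i)
  | 0, X, _, _, b, _ => by simpa using SubBound.one_of_subsingleton
  | n + 1, X, _, _, b, h => by
    have h1 : SubBound (X 0 × ∀ i : Fin n, X i.succ) (b 0 * ∏ i : Fin n, b i.succ) :=
      (h 0).prod (SubBound.pi fun i => h i.succ)
    rw [Fin.prod_univ_succ]
    refine h1.of_injective
      (f := MonoidHom.mk' (fun x : ∀ i, X i => (x 0, fun i : Fin n => x i.succ)) fun a c => rfl) ?_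
    intro x y hxy
    funext i
    refine Fin.cases ?_ (fun j => ?_) i
    · exact congrArg Prod.fst hxy
    · exact congrFun (congrArg Prod.snd hxy) j

theorem SubBound.pi_fintype {ι : Type*} [Fintype ι] {X : ι → Type*} [∀ i, Group (X i)] [∀ i, Finite (X i)]
    {b : ι → ℕ} (h : ∀ i, SubBound (X i) (b i)) : SubBound (∀ i, X i) (∏ i, b i) := by
  let e := (Fintype.equivFin ι).symm
  have h1 := SubBound.pi (fun j => h (e j))
  rw [Equiv.prod_comp e b] at h1
  refine h1.of_injective (f := MonoidHom.mk' (fun (x : ∀ i, X i) j => x (e j)) fun a c => rfl) ?_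
  intro x y hxy
  funext i
  obtain ⟨j, rfl⟩ := e.surjective i
  exact congrFun hxy j

/-- In a nonabelian group the noncentral classes have at least two elements and the centre is small. -/
theorem eight_mul_k_le (h : ¬ ∀ a b : G, a * b = b * a) : 8 * k G ≤ 5 * Nat.card G := by
  classical
  let : Fintype G := Fintype.ofFinite G
  have hz : 4 * Nat.card (Subgroup.center G) ≤ Nat.card G := by
    rw [← (Subgroup.center G).card_mul_index, mul_comm 4]
    refine Nat.mul_le_mul_left _ ?_
    by_contra hlt
    push_neg at hlt
    refine h fun a b => ?_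
    have hcyc : IsCyclic (G ⧸ Subgroup.center G) := by
      have hc : Nat.card (G ⧸ Subgroup.center G) < 4 := hlt
      have h0 : 0 < Nat.card (G ⧸ Subgroup.center G) := Nat.card_pos
      by_cases h1 : Nat.card (G ⧸ Subgroup.center G) = 1
      · have := Finite.card_le_one_iff_subsingleton.1 h1.le
        infer_instance
      · have hp : (Nat.card (G ⧸ Subgroup.center G)).Prime := by
          rcases (show Nat.card (G ⧸ Subgroup.center G) = 2 ∨ Nat.card (G ⧸ Subgroup.center G) = 3 by omega) with
            h | h <;> rw [h] <;> norm_num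
        have := Fact.mk hp
        exact isCyclic_of_prime_card rfl
    exact (commutative_of_cyclic_center_quotient (QuotientGroup.mk' (Subgroup.center G))
      (by rw [QuotientGroup.ker_mk'])) a b
  have hce : 2 * k G ≤ Nat.card G + Nat.card (Subgroup.center G) := by
    calc 2 * k G = ∑ _c : ConjClasses G, 2 := by simp [k, Nat.card_eq_fintype_card, mul_comm]
      _ ≤ ∑ c : ConjClasses G, (Nat.card c.carrier + if c.carrier.Subsingleton then 1 else 0) := by
          refine Finset.sum_le_sum fun c _ => ?_
          obtain ⟨x, rfl⟩ := ConjClasses.mk_surjective c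
          have h0 : 0 < Nat.card (ConjClasses.mk x).carrier :=
            Nat.card_pos_iff.2 ⟨⟨⟨x, ConjClasses.mem_carrier_mk⟩⟩, inferInstance⟩
          split_ifs with hs
          · omega
          · simp only [add_zero]
            by_contra hlt
            exact hs (Set.subsingleton_coe _ |>.1 (Finite.card_le_one_iff_subsingleton.1 (by omega)))
      _ = Nat.card G + Nat.card (Subgroup.center G) := by
          rw [Finset.sum_add_distrib, ← Nat.card_sigma]
          congr 1
          · exact Nat.card_congr ((Equiv.sigmaCongrRight fun c : ConjClasses G =>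
              Equiv.subtypeEquivRight fun x => ConjClasses.mem_carrier_iff_mk_eq).trans
                (Equiv.sigmaFiberEquiv ConjClasses.mk))
          · rw [Finset.sum_boole, Nat.cast_id, ← Fintype.card_subtype, ← Nat.card_eq_fintype_card]
            refine (Nat.card_congr (Equiv.ofBijective (fun z : Subgroup.center G =>
              (⟨ConjClasses.mk (z : G), ?_⟩ : {c : ConjClasses G // c.carrier.Subsingleton})) ⟨?_, ?_⟩)).symm
            · intro a ha b hb
              rw [ConjClasses.mem_carrier_iff_mk_eq] at ha hb
              obtain ⟨u, hu⟩ := isConj_iff.1 (ConjClasses.mk_eq_mk_iff_isConj.1 ha).symm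
              obtain ⟨w, hw⟩ := isConj_iff.1 (ConjClasses.mk_eq_mk_iff_isConj.1 hb).symm
              rw [← hu, ← hw]
              simp [Subgroup.mem_center_iff.1 z.2]
            · intro a c hac
              obtain ⟨u, hu⟩ := isConj_iff.1 (ConjClasses.mk_eq_mk_iff_isConj.1 (congrArg Subtype.val hac))
              simp [Subgroup.mem_center_iff.1 a.2] at hu
              exact hu
            · rintro ⟨c, hc⟩
              obtain ⟨x, rfl⟩ := ConjClasses.mk_surjective c
              refine ⟨⟨x, Subgroup.mem_center_iff.2 fun g => ?_⟩, rfl⟩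
              have := hc (ConjClasses.mem_carrier_iff_mk_eq.2
                (ConjClasses.mk_eq_mk_iff_isConj.2 (isConj_iff.2 ⟨g, rfl⟩ : IsConj x (g * x * g⁻¹)).symm))
                ConjClasses.mem_carrier_mk
              exact mul_inv_eq_iff_eq_mul.1 this
  omega

end CfsgLib.SolvClasses
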