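import Cfsg.Agent.Lib.SolvClasses.RankOne
import Cfsg.Agent.Lib.Solvable.MinimalNormal

/-!
# Coprime elementary abelian normal subgroups of irreducible isometry groups

* `fixW_inf_perp`: fixed subgroups are nondegenerate;
* `eq_pow_of_fpf`: an elementary abelian group acting fixed point freely is cyclic;
* `exists_coprime_normal`: the normal subgroup used in the irreducible cases;
* `exists_frame`: a nondegenerate cyclic submodule.
-/

set_option autoImplicit false

noncomputable section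

namespace CfsgLib.SolvClasses

open Finset

variable {W : Type} [CommGroup W] [Finite W] {β : W →* W →* ℂˣ} {X : Type} [Group X] [Finite X]
  {f : X →* MulAut W} {r q : ℕ}

/-- The fixed subgroup of an element. -/
def fixW (f : X →* MulAut W) (x : X) : Subgroup W := (f x).toMonoidHom.eqLocus (MonoidHom.id W)

omit [Finite W] [Finite X] in
theorem mem_fixW {x : X} {w : W} : w ∈ fixW f x ↔ f x w = w := Iff.rfl

omit [Finite W] [Finite X] in
theorem fixW_invariant {x : X} (h : ∀ y : X, x * y = y * x) : Invariant f (fixW f x) := by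
  intro y u hu
  rw [mem_fixW, ← MulAut.mul_apply, ← map_mul, h, map_mul, MulAut.mul_apply, mem_fixW.1 hu]

/-- The product over the powers of an element. -/
def nrm (f : X →* MulAut W) (x : X) (q : ℕ) (w : W) : W := ∏ i ∈ range q, f (x ^ i) w

omit [Finite W] [Finite X] in
theorem nrm_mem_fixW {x : X} (hx : x ^ q = 1) (w : W) : f x (nrm f x q w) = nrm f x q w := by
  rcases Nat.eq_zero_or_pos q with rfl | hq
  · simp [nrm]
  have h1 : f x (nrm f x q w) = ∏ i ∈ range q, f (x ^ (i + 1)) w := by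
    rw [nrm, map_prod]
    exact Finset.prod_congr rfl fun i _ => by rw [pow_succ', map_mul, MulAut.mul_apply]
  have h2 := Finset.prod_range_succ' (fun i => f (x ^ i) w) q
  rw [Finset.prod_range_succ, hx, pow_zero] at h2
  rw [h1]
  exact (mul_right_cancel h2).symm

omit [Finite X] in
theorem eq_one_of_pow_pow (hr : r.Prime) (hq : q.Prime) (hne : q ≠ r) {G : Type*} [Group G] {g : G}
    (h1 : g ^ r = 1) (h2 : g ^ q = 1) : g = 1 := by
  rw [← orderOf_eq_one_iff]
  exact Nat.eq_one_of_dvd_coprimes ((Nat.coprime_primes hr hq).2 hne.symm) (orderOf_dvd_of_pow_eq_one h1)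
    (orderOf_dvd_of_pow_eq_one h2)

omit [Finite X] in
theorem fixW_inf_perp (hr : r.Prime) (hq : q.Prime) (hne : q ≠ r) (hβ : IsSymp β) (hexp : ∀ w : W, w ^ r = 1)
    (hp : Preserves β f) {x : X} (hx : x ^ q = 1) : fixW f x ⊓ perp β (fixW f x) = ⊥ := by
  rw [Subgroup.eq_bot_iff_forall]
  intro u hu
  refine hβ.nondeg u fun w => ?_
  have hi : ∀ i, f (x ^ i) u = u := by
    intro i
    induction i with
    | zero => simp
    | succ i ih => rw [pow_succ, map_mul, MulAut.mul_apply, mem_fixW.1 hu.1, ih]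
  have h2 : β u (nrm f x q w) = β u w ^ q := by
    rw [nrm, map_prod, Finset.prod_congr rfl (fun i _ => by rw [← hp (x ^ i) u w, hi] : ∀ i ∈ range q, β u (f (x ^ i) w) = β u w),
      Finset.prod_const, Finset.card_range]
  rw [hu.2 _ (nrm_mem_fixW hx w)] at h2
  exact eq_one_of_pow_pow hr hq hne (by rw [← map_pow, hexp, map_one]) h2.symm

theorem card_modEq_fixW (hq : q.Prime) {x : X} (hx : x ^ q = 1) (S : Subgroup W) (hS : ∀ w ∈ S, f x w ∈ S) :
    Nat.card S ≡ Nat.card (S ⊓ fixW f x : Subgroup W) [MOD q] := by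
  classical
  have := Fact.mk hq
  have hinv : ∀ y ∈ Subgroup.zpowers x, ∀ w ∈ S, f y w ∈ S := by
    rintro y ⟨n, rfl⟩ w hw
    show f (x ^ n) w ∈ S
    rw [← zpow_mod_orderOf]
    have hnn : 0 ≤ n % (orderOf x : ℤ) := Int.emod_nonneg _ (Int.natCast_ne_zero.2 (orderOf_pos x).ne')
    obtain ⟨m, hm⟩ := Int.eq_ofNat_of_zero_le hnn
    rw [hm, zpow_natCast]
    clear hm
    induction m with
    | zero => simpa using hw
    | succ m ih => rw [pow_succ', map_mul, MulAut.mul_apply]; exact hS _ ih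
  let A : MulAction (Subgroup.zpowers x) S :=
    { smul := fun y w => ⟨f (y : X) w, hinv y y.2 w w.2⟩
      one_smul := fun w => Subtype.ext (show f ((1 : Subgroup.zpowers x) : X) w = w by simp)
      mul_smul := fun y z w => Subtype.ext (show f ((y * z : Subgroup.zpowers x) : X) w = _ by
        rw [Subgroup.coe_mul, map_mul, MulAut.mul_apply]; rfl) }
  have hsm : ∀ (y : Subgroup.zpowers x) (w : S), ((y • w : S) : W) = f (y : X) w := fun _ _ => rfl
  have hP : IsPGroup q (Subgroup.zpowers x) := fun y => ⟨1, Subtype.ext (by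
    obtain ⟨n, hn⟩ := y.2
    have hn' : x ^ n = (y : X) := hn
    rw [pow_one, Subgroup.coe_pow, ← hn', ← zpow_natCast, ← zpow_mul, mul_comm, zpow_mul, zpow_natCast, hx, one_zpow,
      Subgroup.coe_one])⟩
  refine (hP.card_modEq_card_fixedPoints S).trans (congrArg (· % q) (Nat.card_congr ?_))
  refine ⟨fun w => ⟨(w.1 : W), w.1.2, by
      have h := congrArg Subtype.val (w.2 ⟨x, Subgroup.mem_zpowers x⟩)
      exact h⟩,
    fun w => ⟨⟨(w : W), w.2.1⟩, fun y => Subtype.ext ?_⟩, fun w => rfl, fun w => rfl⟩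
  obtain ⟨n, hn⟩ := y.2
  have hn' : x ^ n = (y : X) := hn
  rw [hsm, ← hn']
  have hz : x ^ n ∈ stab f (w : W) := zpow_mem (show x ∈ stab f (w : W) from w.2.2) n
  exact hz

omit [Finite X] in
/-- A fixed point free elementary abelian group is cyclic. -/
theorem eq_pow_of_fpf (hr : r.Prime) (hq : q.Prime) (hne : q ≠ r) (hexp : ∀ w : W, w ^ r = 1) [Nontrivial W]
    {a b : X} (hab : a * b = b * a) (ha : a ^ q = 1) (hb : b ^ q = 1) (hfa : fixW f a = ⊥)
    (hfb : ∀ j < q, fixW f (a * b ^ j) = ⊥) : fixW f b ≠ ⊥ := by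
  intro hfb'
  obtain ⟨w, hw⟩ := exists_ne (1 : W)
  have hn1 : ∀ c : X, c ^ q = 1 → fixW f c = ⊥ → ∀ z, nrm f c q z = 1 := fun c hc hfix z => by
    have : nrm f c q z ∈ fixW f c := nrm_mem_fixW hc z
    rwa [hfix, Subgroup.mem_bot] at this
  have hab' : ∀ j, (a * b ^ j) ^ q = 1 := fun j => by
    rw [((show Commute a b from hab).pow_right j).mul_pow, ha, ← pow_mul, mul_comm, pow_mul, hb, one_pow, one_mul]
  have htot : ∏ j ∈ range q, nrm f (a * b ^ j) q w = w ^ q := by
    show (∏ j ∈ range q, ∏ i ∈ range q, f ((a * b ^ j) ^ i) w) = w ^ q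
    rw [Finset.prod_comm]
    have hinner : ∀ i ∈ range q, ∏ j ∈ range q, f ((a * b ^ j) ^ i) w = if i = 0 then w ^ q else 1 := by
      intro i hi
      rw [Finset.mem_range] at hi
      by_cases h0 : i = 0
      · subst h0; simp
      rw [if_neg h0]
      have hstep : ∀ j, f ((a * b ^ j) ^ i) w = f (a ^ i) (f ((b ^ i) ^ j) w) := fun j => by
        rw [((show Commute a b from hab).pow_right j).mul_pow, map_mul, MulAut.mul_apply, ← pow_mul, ← pow_mul,
          mul_comm j i]
      rw [Finset.prod_congr rfl (fun j _ => hstep j), ← map_prod]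
      have hbi : fixW f (b ^ i) = ⊥ := by
        rw [eq_bot_iff, ← hfb']
        intro z hz
        have hcop : Nat.Coprime i q := (Nat.Coprime.symm
          ((hq.coprime_iff_not_dvd).2 fun hd => h0 (Nat.eq_zero_of_dvd_of_lt hd hi)))
        obtain ⟨m, -, hm⟩ := Nat.exists_mul_mod_eq_one_of_coprime hcop hq.one_lt
        have hbim : (b ^ i) ^ m = b := by rw [← pow_mul, pow_eq_pow_mod _ hb, hm, pow_one]
        have hz' : (b ^ i) ^ m ∈ stab f z := pow_mem (show b ^ i ∈ stab f z from hz) m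
        rwa [hbim] at hz'
      rw [show (∏ j ∈ range q, f ((b ^ i) ^ j) w) = nrm f (b ^ i) q w from rfl,
        hn1 _ (by rw [← pow_mul, mul_comm, pow_mul, hb, one_pow]) hbi, map_one]
    rw [Finset.prod_congr rfl hinner, Finset.prod_ite_eq' (range q) 0 (fun _ => w ^ q), if_pos]
    exact Finset.mem_range.2 hq.pos
  rw [Finset.prod_congr rfl (fun j hj => hn1 _ (hab' j) (hfb j (Finset.mem_range.1 hj)) w), Finset.prod_const_one] at htot
  exact hw (eq_one_of_pow_pow hr hq hne (hexp w) htot.symm)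

/-- A normal elementary abelian subgroup of order prime to the characteristic. -/
theorem exists_coprime_normal (hr : r.Prime) (hexp : ∀ w : W, w ^ r = 1) [Nontrivial W] [Group.IsSolvable X]
    [Nontrivial X] (hf : Function.Injective f) (hirr : Irred f) :
    ∃ (M : Subgroup X) (q : ℕ), M.Normal ∧ q.Prime ∧ q ≠ r ∧ M ≠ ⊥ ∧ (∀ x ∈ M, x ^ q = 1) ∧
      (∀ x ∈ M, ∀ y ∈ M, x * y = y * x) ∧ (∀ w : W, (∀ x ∈ M, f x w = w) → w = 1) := by
  classical
  obtain ⟨M, hMn, hM, hmin⟩ := CfsgLib.Solvable.exists_minimal_normal (G := X)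
  obtain ⟨q, hq, hpow⟩ := CfsgLib.Solvable.exists_prime_pow_eq_one_of_minimal_normal M hM hmin inferInstance
  have hcomm := CfsgLib.Solvable.commute_of_minimal_normal M hM hmin inferInstance
  let Fx : Subgroup W := ⨅ x : M, fixW f (x : X)
  have hFx : Invariant f Fx := by
    intro y u hu
    rw [Subgroup.mem_iInf] at hu ⊢
    intro x
    have h1 : f (y⁻¹ * (x : X) * y) u = u := hu ⟨_, by simpa using hMn.conj_mem x x.2 y⁻¹⟩
    rw [mem_fixW, ← MulAut.mul_apply, ← map_mul, show (x : X) * y = y * (y⁻¹ * x * y) by group, map_mul,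
      MulAut.mul_apply, h1]
  have hbot : Fx = ⊥ := by
    refine (hirr Fx hFx).resolve_right fun htop => hM ?_
    rw [Subgroup.eq_bot_iff_forall]
    intro x hx
    refine hf ((MulEquiv.ext fun w => ?_).trans (map_one f).symm)
    have h1 : w ∈ Fx := htop ▸ Subgroup.mem_top w
    exact Subgroup.mem_iInf.1 h1 ⟨x, hx⟩
  have hfree : ∀ w : W, (∀ x ∈ M, f x w = w) → w = 1 := fun w h => by
    rw [← Subgroup.mem_bot, ← hbot, Subgroup.mem_iInf]
    exact fun x => h x x.2
  refine ⟨M, q, hMn, hq, ?_, hM, hpow, hcomm, hfree⟩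
  rintro rfl
  have := Fact.mk hq
  let A : MulAction M W :=
    { smul := fun y w => f (y : X) w
      one_smul := fun w => show f ((1 : M) : X) w = w by simp
      mul_smul := fun y z w => show f ((y * z : M) : X) w = f (y : X) (f (z : X) w) by
        rw [Subgroup.coe_mul, map_mul, MulAut.mul_apply] }
  have hP : IsPGroup q M := fun y => ⟨1, Subtype.ext (by simpa using hpow y y.2)⟩
  obtain ⟨a, ha⟩ : ∃ a, Nat.card W = q ^ a := IsPGroup.iff_card.1 fun w => ⟨1, by simpa using hexp w⟩
  have h1 := hP.card_modEq_card_fixedPoints W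
  have hfp : Nat.card (MulAction.fixedPoints M W) = 1 := by
    rw [Nat.card_eq_one_iff_unique]
    refine ⟨⟨fun u v => ?_⟩, ⟨⟨1, fun y => map_one (f (y : X))⟩⟩⟩
    exact Subtype.ext ((hfree u.1 fun x hx => u.2 ⟨x, hx⟩).trans (hfree v.1 fun x hx => v.2 ⟨x, hx⟩).symm)
  rw [hfp, ha] at h1
  rcases Nat.eq_zero_or_pos a with rfl | ha0
  · rw [pow_zero, Nat.card_eq_one_iff_unique] at ha
    exact not_subsingleton W ha.1
  · have h2 : q ^ a % q = 0 := Nat.dvd_iff_mod_eq_zero.1 (dvd_pow_self q ha0.ne')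
    rw [Nat.ModEq, h2, Nat.mod_eq_of_lt hq.one_lt] at h1
    exact zero_ne_one h1

theorem card_closure_le (hr : r.Prime) (hexp : ∀ w : W, w ^ r = 1) : ∀ (n : ℕ) (t : Fin n → W),
    Nat.card (Subgroup.closure (Set.range t)) ≤ r ^ n := by
  intro n
  induction n with
  | zero => intro t; simp [Set.range_eq_empty]
  | succ n ih =>
    intro t
    have hle : Subgroup.closure (Set.range t) ≤ Subgroup.closure (Set.range (t ∘ Fin.succ)) ⊔ Subgroup.zpowers (t 0) := by
      rw [Subgroup.closure_le]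
      rintro _ ⟨i, rfl⟩
      refine Fin.cases (Subgroup.mem_sup_right (Subgroup.mem_zpowers _))
        (fun j => Subgroup.mem_sup_left (Subgroup.subset_closure ⟨j, rfl⟩)) i
    refine (Nat.card_le_card_of_injective _ (Subgroup.inclusion_injective hle)).trans ?_
    rw [pow_succ']
    by_cases hmem : t 0 ∈ Subgroup.closure (Set.range (t ∘ Fin.succ))
    · rw [sup_eq_left.2 (Subgroup.zpowers_le.2 hmem)]
      exact (ih _).trans (Nat.le_mul_of_pos_left _ hr.pos)
    · rw [card_sup_zpowers hr hexp hmem]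
      exact Nat.mul_le_mul_left r (ih _)

omit [Finite X] in
/-- A vector and the submodule it generates. -/
theorem exists_frame (hr : r.Prime) (hq : q.Prime) (hne : q ≠ r) (hr2 : r = 2) (hβ : IsSymp β)
    (hexp : ∀ w : W, w ^ r = 1) [Nontrivial W] (hp : Preserves β f) {m : X} (hm : m ^ q = 1) (hfix : fixW f m = ⊥) :
    ∃ (v : W) (U : Subgroup W), v ≠ 1 ∧ v ∈ U ∧ β v (f m v) ≠ 1 ∧ (∀ u ∈ U, f m u ∈ U) ∧
      Nat.card U ≤ r ^ (q - 1) ∧
      (∀ g : MulAut W, g v = v → (∀ i : ℕ, g (f (m ^ i) v) = f (m ^ i) (g v)) → ∀ u ∈ U, g u = u) := by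
  classical
  obtain ⟨v, hv⟩ : ∃ v, β v (f m v) ≠ 1 := by
    by_contra hall
    push_neg at hall
    obtain ⟨w, hw⟩ := exists_ne (1 : W)
    have hsym : ∀ u z, β u (f m z) * β z (f m u) = 1 := fun u z => by
      have h := hall (u * z)
      simp only [map_mul, MonoidHom.mul_apply, hall u, hall z, one_mul, mul_one] at h
      first | exact h | (rw [mul_comm]; exact h)
    have hinv : ∀ u, f (m * m) u = u := by
      intro u
      have hall' : ∀ z, β (f (m * m) u) z = β u z := by
        intro z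
        obtain ⟨z', rfl⟩ : ∃ z', f m z' = z := ⟨(f m).symm z, (f m).apply_symm_apply z⟩
        rw [map_mul, MulAut.mul_apply, hp, hβ.swap (f m u) z' |> eq_inv_of_mul_eq_one_left,
          ← eq_inv_of_mul_eq_one_left (hsym u z')]
      have h2 : f (m * m) u * u⁻¹ = 1 := hβ.nondeg _ fun z => by
        rw [map_mul, map_inv, MonoidHom.mul_apply, MonoidHom.inv_apply, hall' z, mul_inv_cancel]
      exact mul_inv_eq_one.1 h2
    have hfw : w ∈ fixW f m := by
      obtain ⟨j, hj⟩ := (hq.odd_of_ne_two (by omega))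
      have hpw : (m * m) ^ j ∈ stab f w := pow_mem (show m * m ∈ stab f w from hinv w) j
      have h2 : m = ((m * m) ^ j)⁻¹ := by
        rw [eq_inv_iff_mul_eq_one, ← sq, ← pow_mul, ← pow_succ', ← hj, hm]
      have h3 : ((m * m) ^ j)⁻¹ ∈ stab f w := inv_mem hpw
      rw [← h2] at h3
      exact h3
    rw [hfix, Subgroup.mem_bot] at hfw
    exact hw hfw
  have hv1 : v ≠ 1 := fun h => hv (by rw [h, map_one]; rfl)
  set U : Subgroup W := Subgroup.closure (Set.range fun i : Fin (q - 1) => f (m ^ (i : ℕ)) v) with hU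
  have hgen : ∀ i, i < q - 1 → f (m ^ i) v ∈ U := fun i hi => Subgroup.subset_closure ⟨⟨i, hi⟩, rfl⟩
  have hlast : f (m ^ (q - 1)) v ∈ U := by
    have h1 : nrm f m q v = 1 := by
      have := nrm_mem_fixW (f := f) hm v
      rw [← mem_fixW (f := f), hfix, Subgroup.mem_bot] at this
      exact this
    rw [nrm, show q = (q - 1) + 1 by have := hq.pos; omega, Finset.prod_range_succ] at h1
    rw [eq_inv_of_mul_eq_one_right h1]
    exact inv_mem (prod_mem fun i hi => hgen i (Finset.mem_range.1 hi))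
  refine ⟨v, U, hv1, ?_, hv, ?_, card_closure_le hr hexp _ _, ?_⟩
  · simpa using hgen 0 (by have := hq.two_le; omega)
  · intro u hu
    have hle : U ≤ U.comap (f m).toMonoidHom := by
      rw [hU, Subgroup.closure_le]
      rintro _ ⟨i, rfl⟩
      show f m (f (m ^ (i : ℕ)) v) ∈ U
      rw [← MulAut.mul_apply, ← map_mul, ← pow_succ']
      rcases Nat.lt_or_ge ((i : ℕ) + 1) (q - 1) with h | h
      · exact hgen _ h
      · rw [show (i : ℕ) + 1 = q - 1 by have := i.isLt; omega]; exact hlast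
    exact hle hu
  · intro g hg hgc u hu
    have hle : U ≤ g.toMonoidHom.eqLocus (MonoidHom.id W) := by
      rw [hU, Subgroup.closure_le]
      rintro _ ⟨i, rfl⟩
      exact (hgc i).trans (by rw [hg]; rfl)
    exact hle hu

end CfsgLib.SolvClasses
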