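import Cfsg.Agent.Lib.SolvClasses.Two

/-!
# The remaining small cases

* `k_eight_irred`: irreducible soluble groups on a group of order eight;
* `k_two`: pairings of exponent two on groups of order `4 ^ a`, `a` from two to four;
* `k_five_one`: pairings on a group of order twenty-five.
-/

set_option autoImplicit false

noncomputable section

namespace CfsgLib.SolvClasses

variable {W : Type} [CommGroup W] [Finite W] {β : W →* W →* ℂˣ} {X : Type} [Group X] [Finite X]
  {f : X →* MulAut W} {r : ℕ}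

theorem index_centralizer_le (M : Subgroup X) [hMn : M.Normal] {m : X} (hm : m ∈ M) (hm1 : m ≠ 1) :
    (Subgroup.centralizer ({m} : Set X)).index ≤ Nat.card M - 1 := by
  let g : X ⧸ Subgroup.centralizer ({m} : Set X) → ((M : Set X) \ {1} : Set X) := fun c =>
    Quotient.liftOn' c (fun x => ⟨x * m * x⁻¹, hMn.conj_mem m hm x, fun h => hm1 (conj_eq_one_iff.1 h)⟩)
      fun x y hxy => Subtype.ext (by
        rw [QuotientGroup.leftRel_apply, Subgroup.mem_centralizer_singleton_iff] at hxy
        calc x * m * x⁻¹ = x * (m * (x⁻¹ * y)) * y⁻¹ := by group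
          _ = x * ((x⁻¹ * y) * m) * y⁻¹ := by rw [hxy]
          _ = y * m * y⁻¹ := by group)
  refine (Nat.card_le_card_of_injective g ?_).trans (le_of_eq ?_)
  · intro c d
    induction c using Quotient.inductionOn'
    induction d using Quotient.inductionOn'
    rename_i x y
    intro h
    have h' : x * m * x⁻¹ = y * m * y⁻¹ := congrArg Subtype.val h
    refine Quotient.sound' (QuotientGroup.leftRel_apply.2 (Subgroup.mem_centralizer_singleton_iff.2 ?_))
    calc x⁻¹ * y * m = x⁻¹ * (y * m * y⁻¹) * y := by group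
      _ = m * (x⁻¹ * y) := by rw [← h']; group
  · rw [Nat.card_coe_set_eq, Set.ncard_diff_singleton_of_mem (one_mem M), ← Nat.card_coe_set_eq, SetLike.coe_sort_coe]

theorem card_fixW_cases {q : ℕ} (hq : q.Prime) (hexp : ∀ w : W, w ^ 2 = 1) (hW : Nat.card W = 8)
    (hf : Function.Injective f) {m : X} (hm : m ^ q = 1) (hm1 : m ≠ 1) (hq2 : q ≠ 2) :
    q = 3 ∧ Nat.card (fixW f m) = 2 ∨ q = 7 ∧ fixW f m = ⊥ := by
  have h := card_modEq_fixW (f := f) hq hm ⊤ fun w _ => Subgroup.mem_top _
  rw [top_inf_eq, Subgroup.card_top, hW] at h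
  have hlt : Nat.card (fixW f m) ≠ 8 := fun h8 =>
    hm1 (hf ((MulEquiv.ext fun w => (mem_fixW.1
      ((Subgroup.eq_top_of_card_eq (fixW f m) (h8.trans hW.symm)) ▸ Subgroup.mem_top w : w ∈ fixW f m))).trans
        (map_one f).symm))
  obtain ⟨j, hj, hjc⟩ := (Nat.dvd_prime_pow Nat.prime_two).1
    (show Nat.card (fixW f m) ∣ 2 ^ 3 by rw [show (2 : ℕ) ^ 3 = 8 from rfl, ← hW]; exact Subgroup.card_subgroup_dvd_card _)
  rw [hjc] at h hlt ⊢
  change 8 % q = 2 ^ j % q at h
  have hq7 : q ≤ 7 := by
    by_contra hgt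
    rcases eq_or_ne q 8 with rfl | hne
    · norm_num at hq
    · have hj8 : 2 ^ j ≤ 8 := (Nat.pow_le_pow_right two_pos hj).trans le_rfl
      rw [Nat.mod_eq_of_lt (by omega), Nat.mod_eq_of_lt (by omega)] at h
      omega
  interval_cases j
  · refine Or.inr ⟨?_, Subgroup.card_eq_one.1 (by rw [hjc]; norm_num)⟩
    interval_cases q <;> first | omega | exact absurd hq (by norm_num)
  · refine Or.inl ⟨?_, by norm_num⟩
    interval_cases q <;> first | omega | exact absurd hq (by norm_num)
  · exfalso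
    interval_cases q <;> first | omega | exact absurd hq (by norm_num)
  · exact absurd rfl hlt

theorem k_eight_irred [Group.IsSolvable X] (hexp : ∀ w : W, w ^ 2 = 1) (hW : Nat.card W = 8)
    (hf : Function.Injective f) (hirr : Irred f) : k X ≤ 26 := by
  classical
  have : Nontrivial W := Finite.one_lt_card_iff_nontrivial.1 (by omega)
  rcases subsingleton_or_nontrivial X with hs | hn
  · exact (k_le_card.trans (Finite.card_le_one_iff_subsingleton.2 hs)).trans (by norm_num)
  obtain ⟨M, q, hMn, hq, hq2, hM, hpow, hcomm, hfree⟩ := exists_coprime_normal Nat.prime_two hexp hf hirr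
  obtain ⟨m, hm, hm1⟩ : ∃ m ∈ M, m ≠ 1 := by
    by_contra h
    push_neg at h
    exact hM ((Subgroup.eq_bot_iff_forall M).2 h)
  rcases card_fixW_cases hq hexp hW hf (hpow m hm) hm1 hq2 with ⟨-, h2⟩ | ⟨rfl, -⟩
  · exfalso
    obtain ⟨a, b, hab, huniv⟩ := Nat.card_eq_two_iff.1 h2
    obtain ⟨u, hu1⟩ : ∃ u : fixW f m, u ≠ 1 := by
      by_contra hh
      push_neg at hh
      exact hab ((hh a).trans (hh b).symm)
    refine hu1 (Subtype.ext (hfree u fun x hx => ?_))
    have hmem : f x u ∈ fixW f m := by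
      rw [mem_fixW, ← MulAut.mul_apply, ← map_mul, hcomm m hm x hx, map_mul, MulAut.mul_apply, mem_fixW.1 u.2]
    have hne : (⟨f x u, hmem⟩ : fixW f m) ≠ 1 := fun h =>
      hu1 (Subtype.ext ((f x).map_eq_one_iff.1 (congrArg Subtype.val h)))
    have key : ∀ y z : fixW f m, y ≠ 1 → z ≠ 1 → y = z := by
      intro y z hy hz
      have h6 : ∀ y : fixW f m, y = a ∨ y = b := fun y => by
        have h7 : y ∈ ({a, b} : Set (fixW f m)) := huniv ▸ Set.mem_univ y
        simpa using h7
      rcases h6 y, h6 z, h6 1 with ⟨rfl | rfl, rfl | rfl, h8 | h8⟩ <;> simp_all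
    exact congrArg Subtype.val (key _ u hne hu1)
  have hall : ∀ x ∈ M, x ≠ 1 → fixW f x = ⊥ := fun x hx hx1 => by
    rcases card_fixW_cases hq hexp hW hf (hpow x hx) hx1 hq2 with ⟨h3, -⟩ | ⟨-, h⟩
    · omega
    · exact h
  have hM7 := eq_pow_of_all_fpf hq hq2 hexp M hpow hcomm hall hm hm1
  set C := Subgroup.centralizer ({m} : Set X)
  have hidx : C.index ≤ 6 := (index_centralizer_le M hm hm1).trans (by omega)
  obtain ⟨v, hv⟩ := exists_ne (1 : W)
  have hC : Nat.card C ≤ 7 := by
    let g : C →* MulAut W := f.comp C.subtype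
    have hbot : stab g v = ⊥ := by
      rw [Subgroup.eq_bot_iff_forall]
      intro c hc
      have hU : ∀ w ∈ fixW f (c : X), f m w ∈ fixW f (c : X) := fun w hw => by
        rw [mem_fixW, ← MulAut.mul_apply, ← map_mul, (Subgroup.mem_centralizer_singleton_iff.1 c.2 : _ = _),
          map_mul, MulAut.mul_apply, mem_fixW.1 hw]
      have h := dvd_card_sub_one (f := f) hq (hpow m hm) (hall m hm hm1) _ hU
      have hvU : v ∈ fixW f (c : X) := hc
      obtain ⟨j, hj, hjc⟩ := (Nat.dvd_prime_pow Nat.prime_two).1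
        (show Nat.card (fixW f (c : X)) ∣ 2 ^ 3 by
          rw [show (2 : ℕ) ^ 3 = 8 from rfl, ← hW]; exact Subgroup.card_subgroup_dvd_card _)
      rw [hjc] at h
      interval_cases j <;> norm_num at h
      · exact absurd (Subgroup.mem_bot.1 ((Subgroup.card_eq_one.1 (by simpa using hjc)) ▸ hvU)) hv
      · refine Subtype.ext (hf ((MulEquiv.ext fun w => ?_).trans (map_one f).symm))
        exact mem_fixW.1 ((Subgroup.eq_top_of_card_eq _ (hjc.trans (by rw [hW]; norm_num))) ▸ Subgroup.mem_top w :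
          w ∈ fixW f (c : X))
    rw [← Subgroup.index_bot, ← hbot]
    exact (index_stab_le_card_sub_one g hv).trans (by omega)
  have h8 := eight_k_le_of_irred hf hirr
  have hX : Nat.card X ≤ 42 := by
    rw [← C.index_mul_card]
    exact (Nat.mul_le_mul hidx hC).trans le_rfl
  rw [hW] at h8
  omega

/-- Exponent two in small rank. -/
theorem k_two {N : ℕ} (ih : SympBelow 2 N) (hβ : IsSymp β) (hexp : ∀ w : W, w ^ 2 = 1) [Group.IsSolvable X]
    (hf : Function.Injective f) (hp : Preserves β f) (hN : Nat.card W ≤ N) {a : ℕ} (ha : a ∈ [2, 3, 4])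
    (hW : Nat.card W = (2 ^ a) ^ 2) : k X ≤ 3 ^ (2 ^ a - 1) := by
  by_cases hirr : Irred f
  · exact k_irred_two ih hβ hexp hf hp hN ha hW hirr
  obtain ⟨U, hU, hne, hne', hirrU, hcase⟩ := exists_minimal_invariant hirr
  rcases hcase hp with hnd | hiso
  · exact step_nondeg ih Nat.prime_two hβ hexp hf hp hN U hU hnd hne hne' hW
  obtain ⟨i, -, hi⟩ := (Nat.dvd_prime_pow Nat.prime_two).1
    (show Nat.card U ∣ 2 ^ (a * 2) by rw [pow_mul, ← hW]; exact U.card_subgroup_dvd_card)
  have hi0 : 0 < i := by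
    by_contra h
    rw [show i = 0 by omega, pow_zero] at hi
    exact hne (Subgroup.card_eq_one.1 hi)
  have hia : i ≤ a := (step_isotropic ih Nat.prime_two hβ hexp hf hp hN hi0 U hU hiso hi hW le_rfl).1
  set R := (resAct f hU).range
  have hexpU : ∀ w : U, w ^ 2 = 1 := fun w => Subtype.ext (hexp w)
  have hRinj : Function.Injective R.subtype := R.subtype_injective
  have hR : Group.IsSolvable R := Group.isSolvable_of_surjective (resAct f hU).rangeRestrict_surjective
  have hgl := card_le_glAux Nat.prime_two hexpU hRinj hi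
  have hb : ∀ b, k R ≤ b → k X ≤ b * ((2 ^ i) ^ (2 * a - 2 * i) * 2 ^ (∑ j : Fin i, ((j : ℕ) + 1)) *
      3 ^ (2 ^ (a - i) - 1)) := fun b hb => (step_isotropic ih Nat.prime_two hβ hexp hf hp hN hi0 U hU hiso hi hW hb).2
  simp only [List.mem_cons, List.not_mem_nil, or_false] at ha
  have ha4 : i ≤ 4 := by omega
  interval_cases i
  · refine (hb 1 (k_le_card.trans (hgl.trans (by norm_num [glAux])))).trans ?_
    rcases ha with rfl | rfl | rfl <;> norm_num [Fin.sum_univ_succ]
  · refine (hb 3 (k_aut_four hexpU (hi.trans (by norm_num)) hRinj)).trans ?_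
    rcases ha with rfl | rfl | rfl <;> norm_num [Fin.sum_univ_succ]
  · rcases ha with rfl | rfl | rfl
    · omega
    · refine (hb 26 (k_eight_irred hexpU (hi.trans (by norm_num)) hRinj hirrU)).trans ?_
      norm_num [Fin.sum_univ_succ]
    · refine (hb 168 (k_le_card.trans (hgl.trans (by norm_num [glAux])))).trans ?_
      norm_num [Fin.sum_univ_succ]
  · have : a = 4 := by omega
    subst this
    have : Nontrivial U := (Subgroup.nontrivial_iff_ne_bot U).2 hne
    have h8 := eight_k_le_of_irred hRinj hirrU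
    have h20 : Nat.card R ≤ 20160 := hgl.trans (by norm_num [glAux])
    rw [hi] at h8
    norm_num at h8
    refine (hb 12600 (by omega)).trans ?_
    norm_num [Fin.sum_univ_succ]

/-- Exponent five in rank one. -/
theorem k_five_one {N : ℕ} (ih : SympBelow 5 N) (hβ : IsSymp β) (hexp : ∀ w : W, w ^ 5 = 1) [Group.IsSolvable X]
    (hf : Function.Injective f) (hp : Preserves β f) (hN : Nat.card W ≤ N) (hW : Nat.card W = (5 ^ 1) ^ 2) :
    k X ≤ 3 ^ (5 ^ 1 - 1) := by
  have h5 : Nat.Prime 5 := by norm_num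
  have : Nontrivial W := Finite.one_lt_card_iff_nontrivial.1 (by rw [hW]; norm_num)
  by_cases hirr : Irred f
  · obtain ⟨v, hv⟩ := exists_ne (1 : W)
    have hcU : Nat.card (Subgroup.zpowers v) = 5 ^ 1 := by
      rw [card_zpowers_of_ne_one h5 hexp hv, pow_one]
    have hperp : Subgroup.zpowers v ≤ perp β (Subgroup.zpowers v) := by
      rintro x ⟨i, rfl⟩ y ⟨j, rfl⟩
      simp [map_zpow, hβ.alt v]
    have heq : perp β (Subgroup.zpowers v) = Subgroup.zpowers v := by
      refine (Subgroup.eq_of_le_of_card_ge hperp (le_of_eq ?_)).symm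
      have := hβ.card_mul_card_perp (Subgroup.zpowers v)
      rw [hcU, hW] at this
      rw [hcU]
      norm_num at this ⊢
      omega
    have hfixv : ∀ x ∈ stab f v, ∀ u ∈ Subgroup.zpowers v, f x u = u := by
      rintro x hx _ ⟨j, rfl⟩
      rw [map_zpow, show f x v = v from hx]
    have hstab : Nat.card (stab f v) ≤ 5 := by
      refine (card_radical_le h5 hβ hexp hf hp _ hperp hcU hW (stab f v) hfixv ?_).trans (by norm_num)
      intro x hx w hw
      rw [heq] at hw
      rw [hfixv x hx w hw, mul_inv_cancel]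
      exact one_mem _
    have hX : Nat.card X ≤ 120 := by
      rw [← (stab f v).index_mul_card]
      exact (Nat.mul_le_mul (index_stab_le_card_sub_one f hv) hstab).trans (by rw [hW]; norm_num)
    have h8 := eight_k_le_of_irred hf hirr
    rw [hW] at h8
    norm_num at h8 ⊢
    omega
  obtain ⟨U, hU, hne, hne', -, hcase⟩ := exists_minimal_invariant hirr
  rcases hcase hp with hnd | hiso
  · exact step_nondeg ih h5 hβ hexp hf hp hN U hU hnd hne hne' hW
  obtain ⟨i, hi2, hi⟩ := (Nat.dvd_prime_pow h5).1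
    (show Nat.card U ∣ 5 ^ (1 * 2) by rw [pow_mul, ← hW]; exact U.card_subgroup_dvd_card)
  have hi0 : 0 < i := by
    by_contra h
    rw [show i = 0 by omega, pow_zero] at hi
    exact hne (Subgroup.card_eq_one.1 hi)
  have hb : k (resAct f hU).range ≤ glAux 5 i i := k_le_card.trans
    (card_le_glAux h5 (fun w => Subtype.ext (hexp w)) (resAct f hU).range.subtype_injective hi)
  obtain ⟨hia, hk⟩ := step_isotropic ih h5 hβ hexp hf hp hN hi0 U hU hiso hi hW hb
  interval_cases i
  refine hk.trans ?_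
  norm_num [glAux, Fin.sum_univ_succ]

end CfsgLib.SolvClasses
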