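import Cfsg.Agent.Lib.SolvClasses.RankOne

/-!
# Isometry groups of the pairing on a group of order eighty-one

* `k_radical_three`: the kernel over an element has at most eleven classes;
* `k_three_two`: the class bound.
-/

set_option autoImplicit false

noncomputable section

namespace CfsgLib.SolvClasses

open Finset

variable {W : Type} [CommGroup W] [Finite W] {β : W →* W →* ℂˣ} {X : Type} [Group X] [Finite X]
  {f : X →* MulAut W}

theorem k_le_eleven {P : Type*} [Group P] [Finite P] (hP : IsPGroup 3 P) (h27 : Nat.card P ≤ 27)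
    (hne : ¬ ∀ a b : P, a * b = b * a) : k P ≤ 11 := by
  classical
  have := Fact.mk Nat.prime_three
  let : Fintype P := Fintype.ofFinite P
  obtain ⟨n, hn⟩ := IsPGroup.iff_card.1 hP
  have hn3 : n = 3 := by
    have hle : n ≤ 3 := (Nat.pow_le_pow_iff_right (by norm_num : 1 < 3)).1 (by rw [← hn]; exact h27)
    interval_cases n
    · exact absurd (fun a b => by
        have := Finite.card_le_one_iff_subsingleton.1 (hn.le)
        exact Subsingleton.elim _ _) hne
    · have := isCyclic_of_prime_card (hn.trans (pow_one 3))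
      exact absurd (fun a b => IsCyclic.commutative.is_comm.comm a b) hne
    · exact absurd (IsPGroup.commutative_of_card_eq_prime_sq hn) hne
    · rfl
  subst hn3
  set Z := Subgroup.center P with hZdef
  have hZ : Nat.card Z ≤ 3 := by
    obtain ⟨j, hj, hjZ⟩ := (Nat.dvd_prime_pow Nat.prime_three).1 (hn ▸ Z.card_subgroup_dvd_card)
    rw [hjZ]
    interval_cases j
    · norm_num
    · norm_num
    · have hq : Nat.card (P ⧸ Z) = 3 := by
        have h := Subgroup.card_eq_card_quotient_mul_card_subgroup Z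
        rw [hn, hjZ] at h
        omega
      have := isCyclic_of_prime_card hq
      exact absurd (commutative_of_cyclic_center_quotient (QuotientGroup.mk' Z)
        (QuotientGroup.ker_mk' Z).le) hne
    · have htop := Subgroup.eq_top_of_card_eq Z (hjZ.trans hn.symm)
      exact absurd (fun a b => (Subgroup.mem_center_iff.1 (htop ▸ Subgroup.mem_top b : b ∈ Z) a)) hne
  have hC : ∀ g : P, Nat.card {h : P // Commute g h} ≤ 9 + if g ∈ Z then 18 else 0 := by
    intro g
    split_ifs with hg
    · exact (Nat.card_le_card_of_injective _ Subtype.val_injective).trans h27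
    · have he : Nat.card {h : P // Commute g h} = Nat.card (Subgroup.centralizer ({g} : Set P)) :=
        Nat.card_congr (Equiv.subtypeEquivRight fun h => by
          rw [Subgroup.mem_centralizer_singleton_iff]; exact ⟨fun h1 => h1.symm, fun h1 => Eq.symm h1⟩)
      obtain ⟨j, hj, hjC⟩ :=
        (Nat.dvd_prime_pow Nat.prime_three).1 (hn ▸ (Subgroup.centralizer ({g} : Set P)).card_subgroup_dvd_card)
      rw [he, hjC]
      interval_cases j <;> norm_num
      have htop := Subgroup.eq_top_of_card_eq _ (hjC.trans hn.symm)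
      exact hg (Subgroup.mem_center_iff.2 fun h =>
        Subgroup.mem_centralizer_singleton_iff.1 (htop ▸ Subgroup.mem_top h : h ∈ Subgroup.centralizer {g}))
  have h1 := sum_centralizer (G := P)
  have h2 : ∑ g : P, Nat.card {h : P // Commute g h} ≤ 27 * 9 + 18 * 3 := by
    refine (Finset.sum_le_sum fun g _ => hC g).trans ?_
    rw [Finset.sum_add_distrib, ← Finset.sum_filter, Finset.sum_const, Finset.sum_const, smul_eq_mul, smul_eq_mul,
      Finset.card_univ, ← Fintype.card_subtype, ← Nat.card_eq_fintype_card, ← Nat.card_eq_fintype_card, hn]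
    exact Nat.add_le_add (by norm_num) (by rw [mul_comm]; exact Nat.mul_le_mul_left 18 hZ)
  rw [h1, hn] at h2
  omega

theorem k_radical_three (hβ : IsSymp β) (hexp : ∀ w : W, w ^ 3 = 1) (hf : Function.Injective f) (hp : Preserves β f)
    (U : Subgroup W) (hUperp : U ≤ perp β U) (hcU : Nat.card U = 3 ^ 1) (hcW : Nat.card W = (3 ^ 2) ^ 2)
    (K : Subgroup X) (hKU : ∀ x ∈ K, ∀ u ∈ U, f x u = u) (hKW : ∀ x ∈ K, ∀ w ∈ perp β U, f x w * w⁻¹ ∈ U) :
    k K ≤ 11 := by
  classical
  have h27 : Nat.card K ≤ 27 :=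
    (card_radical_le Nat.prime_three hβ hexp hf hp U hUperp hcU hcW K hKU hKW).trans (by norm_num)
  set Q := perp β U with hQ
  have hQ27 : Nat.card Q = 27 := by
    have := hβ.card_mul_card_perp U
    rw [hcU, hcW] at this
    rw [hQ]
    omega
  obtain ⟨s, hs⟩ : ∃ s, s ∉ Q := by
    by_contra h
    push_neg at h
    have : Q = ⊤ := eq_top_iff.2 fun w _ => h w
    rw [this, Subgroup.card_top, hcW] at hQ27
    norm_num at hQ27
  have htop : Q ⊔ Subgroup.zpowers s = ⊤ :=
    Subgroup.eq_top_of_card_eq _ (by rw [card_sup_zpowers Nat.prime_three hexp hs, hQ27, hcW]; norm_num)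
  have hUker : ∀ u ∈ U, β u s = 1 → u = 1 := by
    intro u hu h
    refine hβ.nondeg u fun w => ?_
    have hle : Q ⊔ Subgroup.zpowers s ≤ (β u).ker :=
      sup_le (fun q hq => MonoidHom.mem_ker.2 (hβ.eq_one_symm (hq u hu)))
        (Subgroup.zpowers_le.2 (MonoidHom.mem_ker.2 h))
    exact MonoidHom.mem_ker.1 ((htop ▸ hle) (Subgroup.mem_top w))
  let d : K → W := fun x => f (x : X) s * s⁻¹
  have hds : ∀ x : K, f (x : X) s = d x * s := fun x => (inv_mul_cancel_right _ _).symm
  have hdQ : ∀ x, d x ∈ Q := by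
    intro x u hu
    show β (f (x : X) s * s⁻¹) u = 1
    rw [map_mul, map_inv, MonoidHom.mul_apply, MonoidHom.inv_apply]
    have h1 := hp (x : X) s u
    rw [hKU x x.2 u hu] at h1
    rw [h1, mul_inv_cancel]
  have hkey : ∀ (x : K), ∀ e ∈ Q, β (f (x : X) e * e⁻¹) s = (β e (d x))⁻¹ := by
    intro x e he
    have h1 := hp (x : X) e s
    set u := f (x : X) e * e⁻¹ with hu
    rw [hds, show f (x : X) e = u * e from (inv_mul_cancel_right _ _).symm] at h1
    simp only [map_mul, MonoidHom.mul_apply] at h1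
    rw [show β u (d x) = 1 from hβ.eq_one_symm (hdQ x _ (hKW x x.2 e he)), one_mul] at h1
    refine eq_inv_of_mul_eq_one_left (mul_right_cancel (b := β e s) ?_)
    rw [one_mul]
    conv_rhs => rw [← h1]
    ac_rfl
  have hfixQ : ∀ x : K, d x ∈ U → ∀ e ∈ Q, f (x : X) e = e := by
    intro x hx e he
    refine mul_inv_eq_one.1 (hUker _ (hKW x x.2 e he) ?_)
    rw [hkey x e he, he _ hx, inv_one]
  have hdinj : Function.Injective d := by
    intro x y hxy
    refine Subtype.ext (hf (MulEquiv.ext fun w => ?_))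
    have hQeq : ∀ e ∈ Q, f (x : X) e = f (y : X) e := by
      intro e he
      have h1 : (f (x : X) e * e⁻¹) * (f (y : X) e * e⁻¹)⁻¹ = 1 := by
        refine hUker _ (mul_mem (hKW x x.2 e he) (inv_mem (hKW y y.2 e he))) ?_
        rw [map_mul, MonoidHom.mul_apply, map_inv, MonoidHom.inv_apply, hkey x e he, hkey y e he, hxy, mul_inv_cancel]
      exact mul_right_cancel (mul_inv_eq_one.1 h1)
    have hle : Q ⊔ Subgroup.zpowers s ≤ (f (x : X)).toMonoidHom.eqLocus (f (y : X)).toMonoidHom :=
      sup_le hQeq (Subgroup.zpowers_le.2 (show f (x : X) s = f (y : X) s by rw [hds, hds, hxy]))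
    exact (htop ▸ hle) (Subgroup.mem_top w)
  have hmul : ∀ x y : K, d (x * y) = (f (x : X) (d y) * (d y)⁻¹) * (d x * d y) := by
    intro x y
    show f ((x * y : K) : X) s * s⁻¹ = _
    rw [Subgroup.coe_mul, map_mul, MulAut.mul_apply, hds y, map_mul, mul_assoc]
    conv_rhs => rw [mul_comm (d x) (d y), ← mul_assoc, inv_mul_cancel_right]
  by_cases hab : ∀ x y : K, x * y = y * x
  · refine k_le_card.trans ?_
    have horth : ∀ x y : K, β (d x) (d y) = 1 := by
      intro x y
      have h1 := congrArg d (hab x y)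
      rw [hmul, hmul, mul_comm (d y) (d x)] at h1
      have h2 := congrArg (fun z => β z s) (mul_right_cancel h1)
      rw [hkey x _ (hdQ y), hkey y _ (hdQ x), inv_inj] at h2
      have h3 : β (d x) (d y) ^ 2 = 1 := by
        rw [sq]; nth_rewrite 2 [← h2]; exact hβ.swap _ _
      have h4 : β (d x) (d y) ^ 3 = 1 := by rw [← map_pow, hexp, map_one]
      rw [pow_succ, h3, one_mul] at h4
      exact h4
    set G0 : Set W := (U : Set W) ∪ Set.range d with hG0
    set S := Subgroup.closure G0
    have hgen : ∀ g ∈ G0, ∀ h ∈ G0, β g h = 1 := by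
      rintro g (hg | ⟨x, rfl⟩) h (hh | ⟨y, rfl⟩)
      · exact hUperp hg h hh
      · exact hβ.eq_one_symm (hdQ y g hg)
      · exact hdQ x h hh
      · exact horth x y
    have hSperp : S ≤ perp β S := by
      refine (Subgroup.closure_le _).2 fun g hg b hb => ?_
      have hle : S ≤ (β g).ker := (Subgroup.closure_le _).2 fun h hh => MonoidHom.mem_ker.2 (hgen g hg h hh)
      exact MonoidHom.mem_ker.1 (hle hb)
    have hS9 : Nat.card S ≤ 9 := by
      have h1 := hβ.card_mul_card_perp S
      rw [hcW] at h1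
      have h2 : Nat.card S * Nat.card S ≤ 9 * 9 :=
        (Nat.mul_le_mul_left _ (Nat.card_le_card_of_injective _ (Subgroup.inclusion_injective hSperp))).trans
          (by rw [h1]; norm_num)
      exact Nat.mul_self_le_mul_self_iff.1 h2
    exact (Nat.card_le_card_of_injective (fun x => (⟨d x, Subgroup.subset_closure (Or.inr ⟨x, rfl⟩)⟩ : S))
      fun a b h => hdinj (congrArg Subtype.val h)).trans (by omega)
  · refine k_le_eleven (fun x => ⟨2, ?_⟩) h27 hab
    have hcube : d (x ^ 3) ∈ U := by
      rw [pow_succ', sq, hmul, hmul]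
      set u₁ := f (x : X) (d x) * (d x)⁻¹ with hu₁
      have h3 : d x * (u₁ * (d x * d x)) = u₁ * d x ^ 3 := by
        rw [pow_succ, sq]; ac_rfl
      rw [h3, hexp, mul_one]
      refine mul_mem (hKW x x.2 _ ?_) (hKW x x.2 _ (hdQ x))
      exact mul_mem (hUperp (hKW x x.2 _ (hdQ x))) (mul_mem (hdQ x) (hdQ x))
    set z := x ^ 3 with hz
    have hzmul : ∀ y : K, d (z * y) = d z * d y := fun y => by
      rw [hmul, hfixQ z hcube _ (hdQ y), mul_inv_cancel, one_mul]
    have h1 : d (z ^ 3) = 1 := by
      rw [pow_succ', sq, hzmul, hzmul, ← pow_three]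
      exact hexp _
    have hd1 : d 1 = 1 := by
      show f ((1 : K) : X) s * s⁻¹ = 1
      simp
    rw [show (3 : ℕ) ^ 2 = 3 * 3 by norm_num, pow_mul]
    exact hdinj (h1.trans hd1.symm)

/-- The class bound. -/
theorem k_three_two [Group.IsSolvable X] (hβ : IsSymp β) (hexp : ∀ w : W, w ^ 3 = 1) (hf : Function.Injective f)
    (hp : Preserves β f) (hcW : Nat.card W = (3 ^ 2) ^ 2) : k X ≤ 3 ^ (3 ^ 2 - 1) := by
  have : Nontrivial W := Finite.one_lt_card_iff_nontrivial.1 (by rw [hcW]; norm_num)
  obtain ⟨v, hv⟩ := exists_ne (1 : W)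
  let g : stab f v →* MulAut W := f.comp (stab f v).subtype
  have hfix : ∀ x : stab f v, ∀ u ∈ Subgroup.zpowers v, g x u = u := by
    rintro x _ ⟨j, rfl⟩
    show f (x : X) (v ^ j) = v ^ j
    rw [map_zpow, show f (x : X) v = v from x.2]
  have hU : Invariant g (Subgroup.zpowers v) := fun x u hu => by rw [hfix x u hu]; exact hu
  have hperp : Subgroup.zpowers v ≤ perp β (Subgroup.zpowers v) := by
    rintro x ⟨i, rfl⟩ y ⟨j, rfl⟩
    simp [map_zpow, hβ.alt v]
  have hrange : k (resAct g hU).range ≤ 1 := by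
    refine k_le_card.trans (le_of_eq ?_)
    rw [Subgroup.card_eq_one, MonoidHom.range_eq_bot_iff]
    exact MonoidHom.ext fun x => MulEquiv.ext fun u => Subtype.ext (hfix x u u.2)
  have hcU : Nat.card (Subgroup.zpowers v) = 3 ^ 1 := by
    rw [card_zpowers_of_ne_one Nat.prime_three hexp hv, pow_one]
  obtain ⟨-, h2⟩ := step_isotropic_gen (f := g) (c := 11) (c' := 7) (a := 2) Nat.prime_three hβ hexp
    (fun x => hp x) _ hU hperp hcU hcW hrange
    (fun K h1 h2 => k_radical_three (f := g) hβ hexp (hf.comp (stab f v).subtype_injective) (fun x => hp x) _ hperp hcU hcW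
      K h1 h2)
    fun _ W' _ _ β' hβ' hexp' hcW' X' _ _ _ g' hg' hp' => k_sl_three hβ' hexp' (hcW'.trans (by norm_num)) hg' hp'
  exact (card_le_index_mul (stab f v)).trans
    ((Nat.mul_le_mul (hcW ▸ index_stab_le_card_sub_one f hv) h2).trans (by norm_num))

end CfsgLib.SolvClasses
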