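import Cfsg.Agent.Lib.SolvClasses.Scalar
import Cfsg.Agent.Lib.SolvClasses.Three
import Cfsg.Agent.Lib.SolvClasses.Small

/-!
# The class bound for soluble isometry groups

* `sympBelow`: prime exponent;
* `sympBound`: squarefree exponent.
-/

set_option autoImplicit false

noncomputable section

namespace CfsgLib.SolvClasses

theorem pow_le_three_pow {r a₀ : ℕ} (hr : 2 ≤ r) (ha₀ : 1 ≤ a₀) (hbig : 2 ≤ a₀ ∨ 3 ≤ r)
    (hbase : r ^ (4 * a₀ - 1) ≤ 3 ^ ((r - 1) * r ^ (a₀ - 1))) :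
    ∀ a, a₀ ≤ a → r ^ (4 * a - 1) ≤ 3 ^ ((r - 1) * r ^ (a - 1)) := by
  intro a ha
  induction a, ha using Nat.le_induction with
  | base => exact hbase
  | succ a ha ih =>
    set E := (r - 1) * r ^ (a - 1) with hE
    have he : (r - 1) * r ^ (a + 1 - 1) = E + (r - 1) * E := by
      rw [hE, show a + 1 - 1 = a - 1 + 1 by omega, pow_succ]
      obtain ⟨t, rfl⟩ := Nat.exists_eq_add_of_le (show 1 ≤ r by omega)
      simp
      ring
    rw [he, pow_add, show 4 * (a + 1) - 1 = 4 * a - 1 + 4 by omega, pow_add]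
    refine Nat.mul_le_mul ih ?_
    rcases hbig with h2 | h3
    · calc r ^ 4 ≤ r ^ (4 * a - 1) := Nat.pow_le_pow_right (by omega) (by omega)
        _ ≤ 3 ^ E := ih
        _ ≤ 3 ^ ((r - 1) * E) := Nat.pow_le_pow_right (by norm_num) (Nat.le_mul_of_pos_left _ (by omega))
    · calc r ^ 4 ≤ r ^ (2 * (4 * a - 1)) := Nat.pow_le_pow_right (by omega) (by omega)
        _ = (r ^ (4 * a - 1)) ^ 2 := by rw [mul_comm, pow_mul]
        _ ≤ (3 ^ E) ^ 2 := Nat.pow_le_pow_left ih 2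
        _ ≤ 3 ^ ((r - 1) * E) := by
          rw [← pow_mul, mul_comm E 2]
          exact Nat.pow_le_pow_right (by norm_num) (Nat.mul_le_mul_right _ (by omega))

theorem cube_le_three_pow : ∀ r, 7 ≤ r → r ^ 3 ≤ 3 ^ (r - 1) := by
  intro r hr
  induction r, hr using Nat.le_induction with
  | base => norm_num
  | succ r hr ih =>
    rw [show r + 1 - 1 = r - 1 + 1 by omega, pow_succ 3 (r - 1)]
    have h1 : (r + 1) ^ 3 ≤ r ^ 3 * 3 := by nlinarith [Nat.mul_le_mul_left (r * r) hr]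
    exact h1.trans (Nat.mul_le_mul_right 3 ih)

theorem orbit_bound_le {r a : ℕ} (hr : r.Prime) (ha : 1 ≤ a)
    (hlarge : 7 ≤ r ∨ r = 5 ∧ 2 ≤ a ∨ r = 3 ∧ 3 ≤ a ∨ r = 2 ∧ 5 ≤ a) :
    ((r ^ a) ^ 2 - 1) * (r ^ (2 * a - 1) * 3 ^ (r ^ (a - 1) - 1)) ≤ 3 ^ (r ^ a - 1) := by
  have h : r ^ (4 * a - 1) ≤ 3 ^ ((r - 1) * r ^ (a - 1)) := by
    rcases hlarge with h | ⟨rfl, h⟩ | ⟨rfl, h⟩ | ⟨rfl, h⟩
    · exact pow_le_three_pow hr.two_le le_rfl (Or.inr (by omega)) (by simpa using cube_le_three_pow r h) a ha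
    · exact pow_le_three_pow (a₀ := 2) (by norm_num) (by norm_num) (Or.inl le_rfl) (by norm_num) a h
    · exact pow_le_three_pow (a₀ := 3) (by norm_num) (by norm_num) (Or.inl (by norm_num)) (by norm_num) a h
    · exact pow_le_three_pow (a₀ := 5) le_rfl (by norm_num) (Or.inl (by norm_num)) (by norm_num) a h
  have h2 : r ^ a - 1 = (r - 1) * r ^ (a - 1) + (r ^ (a - 1) - 1) := by
    have he : r ^ a = r * r ^ (a - 1) := by rw [← pow_succ', show a - 1 + 1 = a by omega]
    have h1 : 1 ≤ r ^ (a - 1) := Nat.one_le_pow _ _ hr.pos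
    rw [he]
    obtain ⟨t, rfl⟩ := Nat.exists_eq_add_of_le hr.one_lt.le
    rw [Nat.add_sub_cancel_left, add_mul, one_mul]
    omega
  rw [h2, pow_add, ← mul_assoc]
  refine Nat.mul_le_mul_right _ (le_trans ?_ h)
  refine (Nat.mul_le_mul_right _ (Nat.sub_le _ _)).trans (le_of_eq ?_)
  rw [← pow_mul, ← pow_add]
  congr 1
  omega

theorem sympBelow {r : ℕ} (hr : r.Prime) : ∀ N, SympBelow r N := by
  intro N
  induction N with
  | zero => intro W _ _ β _ _ h; omega
  | succ N ih =>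
    intro W _ _ β hβ hexp hlt X _ _ hsol f hf hp e he
    have hN : Nat.card W ≤ N := Nat.lt_succ_iff.1 hlt
    obtain ⟨a, ha⟩ := exists_card_eq_pow hr (Nat.card W) W β le_rfl hβ hexp
    obtain rfl : e = r ^ a := (Nat.pow_left_injective two_ne_zero) (he.symm.trans ha)
    rcases Nat.eq_zero_or_pos a with rfl | ha1
    · norm_num at ha
      have hWs : Subsingleton W := (Nat.card_eq_one_iff_unique.1 ha).1
      have : Subsingleton (MulAut W) := ⟨fun b c => MulEquiv.ext fun w => Subsingleton.elim _ _⟩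
      exact (k_le_card.trans (Finite.card_le_one_iff_subsingleton.2 hf.subsingleton)).trans (by norm_num)
    by_cases hlarge : 7 ≤ r ∨ r = 5 ∧ 2 ≤ a ∨ r = 3 ∧ 3 ≤ a ∨ r = 2 ∧ 5 ≤ a
    · exact (step_orbit ih hr hβ hexp hf hp hN ha ha1).trans (orbit_bound_le hr ha1 hlarge)
    have hr6 : r < 7 := by omega
    have hr2 := hr.two_le
    interval_cases r <;> try (exfalso; revert hr; norm_num; done)
    · rcases (by omega : a = 1 ∨ (a = 2 ∨ a = 3 ∨ a = 4)) with rfl | h
      · exact (k_aut_four hexp (ha.trans (by norm_num)) hf).trans (by norm_num)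
      · exact k_two ih hβ hexp hf hp hN (by simpa using h) ha
    · rcases (by omega : a = 1 ∨ a = 2) with rfl | rfl
      · exact (k_sl_three hβ hexp (ha.trans (by norm_num)) hf hp).trans (by norm_num)
      · exact k_three_two hβ hexp hf hp ha
    · obtain rfl : a = 1 := by omega
      exact k_five_one ih hβ hexp hf hp hN ha

/-- The bound for squarefree exponent. -/
theorem sympBound : SympBound := by
  intro W _ _ β hβ m hm hexp X _ _ hsol f hf hp
  induction m using Nat.strong_induction_on generalizing W X with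
  | _ m ih =>
  rcases eq_or_ne m 1 with rfl | hm1
  · have hWs : Subsingleton W := ⟨fun a b => by rw [← pow_one a, hexp, ← pow_one b, hexp]⟩
    have : Subsingleton (MulAut W) := ⟨fun b c => MulEquiv.ext fun w => Subsingleton.elim _ _⟩
    exact ⟨1, by simp [Nat.card_eq_one_iff_unique.2 ⟨hWs, ⟨1⟩⟩],
      (k_le_card.trans (Finite.card_le_one_iff_subsingleton.2 hf.subsingleton)).trans (by norm_num)⟩
  by_cases hmp : m.Prime
  · obtain ⟨a, ha⟩ := exists_card_eq_pow hmp (Nat.card W) W β le_rfl hβ hexp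
    exact ⟨m ^ a, ha, sympBelow hmp (Nat.card W + 1) W β hβ hexp (Nat.lt_succ_self _) X hsol f hf hp _ ha⟩
  set r := m.minFac
  have hr : r.Prime := Nat.minFac_prime hm1
  obtain ⟨n, hn⟩ := Nat.minFac_dvd m
  change m = r * n at hn
  have hco : Nat.Coprime r n := Nat.coprime_of_squarefree_mul (hn ▸ hm)
  have hn0 : n ≠ 0 := fun h => hm.ne_zero (by rw [hn, h, mul_zero])
  have hnlt : n < m := by rw [hn]; exact lt_mul_of_one_lt_left (Nat.pos_of_ne_zero hn0) hr.one_lt
  have hrlt : r < m := lt_of_le_of_ne (Nat.minFac_le (Nat.pos_of_ne_zero hm.ne_zero)) fun h => hmp (h ▸ hr)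
  set U : Subgroup W := (powMonoidHom r).ker
  set T : Subgroup W := (powMonoidHom n).ker
  have hmemU : ∀ w, w ∈ U ↔ w ^ r = 1 := fun _ => Iff.rfl
  have hmemT : ∀ w, w ∈ T ↔ w ^ n = 1 := fun _ => Iff.rfl
  have horth : ∀ a ∈ U, ∀ b ∈ T, β a b = 1 := by
    intro a ha b hb
    refine orderOf_eq_one_iff.1 (Nat.eq_one_of_dvd_coprimes hco ?_ ?_)
    · exact orderOf_dvd_of_pow_eq_one
        (by rw [← MonoidHom.pow_apply, ← map_pow, (hmemU a).1 ha, map_one, MonoidHom.one_apply])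
    · exact orderOf_dvd_of_pow_eq_one (by rw [← map_pow, (hmemT b).1 hb, map_one])
  have hdec : ∀ w, ∃ a ∈ U, ∃ b ∈ T, a * b = w := by
    intro w
    have h1 : (1 : ℤ) = (r : ℤ) * Nat.gcdA r n + (n : ℤ) * Nat.gcdB r n := by
      rw [← Nat.gcd_eq_gcd_ab, hco.gcd_eq_one, Nat.cast_one]
    refine ⟨w ^ ((n : ℤ) * Nat.gcdB r n), ?_, w ^ ((r : ℤ) * Nat.gcdA r n), ?_, ?_⟩
    · rw [hmemU, ← zpow_natCast, ← zpow_mul, show (n : ℤ) * Nat.gcdB r n * r = (m : ℤ) * Nat.gcdB r n by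
        rw [hn]; push_cast; ring, zpow_mul, zpow_natCast, hexp, one_zpow]
    · rw [hmemT, ← zpow_natCast, ← zpow_mul, show (r : ℤ) * Nat.gcdA r n * n = (m : ℤ) * Nat.gcdA r n by
        rw [hn]; push_cast; ring, zpow_mul, zpow_natCast, hexp, one_zpow]
    · rw [← zpow_add, add_comm, ← h1, zpow_one]
  have horth' : ∀ b ∈ T, ∀ a ∈ U, β b a = 1 := fun b hb a ha => hβ.eq_one_symm (horth a ha b hb)
  have hperpU : perp β U = T := by
    refine le_antisymm (fun w hw => ?_) horth'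
    obtain ⟨a, ha, b, hb, rfl⟩ := hdec w
    have ha1 : a = 1 := by
      refine hβ.nondeg a fun z => ?_
      obtain ⟨c, hc, d, hd, rfl⟩ := hdec z
      have h1 := hw c hc
      rw [map_mul, MonoidHom.mul_apply, horth' b hb c hc, mul_one] at h1
      rw [map_mul, h1, horth a ha d hd, one_mul]
    rw [ha1, one_mul]
    exact hb
  have hnd : U ⊓ perp β U = ⊥ := by
    rw [hperpU, Subgroup.eq_bot_iff_forall]
    rintro w ⟨hwU, hwT⟩
    exact orderOf_eq_one_iff.1 (Nat.eq_one_of_dvd_coprimes hco (orderOf_dvd_of_pow_eq_one ((hmemU w).1 hwU))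
      (orderOf_dvd_of_pow_eq_one ((hmemT w).1 hwT)))
  have hinvU : Invariant f U := fun x w hw => by rw [hmemU, ← map_pow, (hmemU w).1 hw, map_one]
  have hinvT : Invariant f T := fun x w hw => by rw [hmemT, ← map_pow, (hmemT w).1 hw, map_one]
  have hndT : T ⊓ perp β T = ⊥ := by rw [← hperpU]; exact hβ.inf_perp_perp hnd
  set K : Subgroup X := (resAct f hinvU).ker
  obtain ⟨e₁, he₁, hk₁⟩ := ih r hrlt U (restrictPairing β U) (hβ.restrict hnd) hr.squarefree
    (fun w => Subtype.ext ((hmemU w).1 w.2)) (resAct f hinvU).range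
    (Group.isSolvable_of_surjective (resAct f hinvU).rangeRestrict_surjective) (resAct f hinvU).range.subtype
    (resAct f hinvU).range.subtype_injective (by rintro ⟨_, x, rfl⟩ u v; exact hp x u v)
  obtain ⟨e₂, he₂, hk₂⟩ := ih n hnlt T (restrictPairing β T) (hβ.restrict hndT)
    (hm.squarefree_of_dvd ⟨r, by rw [hn, mul_comm]⟩)
    (fun w => Subtype.ext ((hmemT w).1 w.2)) K inferInstance ((resAct f hinvT).comp K.subtype) (by
      intro x y hxy
      refine Subtype.ext (hf (MulEquiv.ext fun w => ?_))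
      obtain ⟨u, hu, v, hv, rfl⟩ := hdec w
      have h1 : f (x : X) v = f (y : X) v := congrArg (fun e : MulAut T => ((e ⟨v, hv⟩ : T) : W)) hxy
      rw [map_mul, map_mul, mem_ker_resAct.1 x.2 u hu, mem_ker_resAct.1 y.2 u hu, h1])
    (fun x u v => hp x u v)
  have hW : Nat.card W = (e₁ * e₂) ^ 2 := by
    rw [mul_pow, ← he₁, ← he₂, ← hperpU, hβ.card_mul_card_perp]
  have h1 : 1 ≤ e₁ := Nat.pos_of_ne_zero fun h => by
    rw [h] at he₁; norm_num at he₁; exact absurd he₁ (Nat.card_pos (α := U)).ne'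
  have h2 : 1 ≤ e₂ := Nat.pos_of_ne_zero fun h => by
    rw [h] at he₂; norm_num at he₂; exact absurd he₂ (Nat.card_pos (α := T)).ne'
  refine ⟨e₁ * e₂, hW, (card_le_mul K).trans ?_⟩
  rw [mul_comm (k K)]
  exact (Nat.mul_le_mul ((k_congr (QuotientGroup.quotientKerEquivRange (resAct f hinvU))).trans_le hk₁) hk₂).trans
    (three_pow_mul_le h1 h2)

end CfsgLib.SolvClasses
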