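import Cfsg.Agent.Lib.SolvClasses.Classes

/-!
# Alternating pairings with values in the nonzero complex numbers
-/

set_option autoImplicit false

universe u

namespace CfsgLib.SolvClasses

/-- A nondegenerate alternating pairing. -/
structure IsSymp {W : Type*} [CommGroup W] (β : W →* W →* ℂˣ) : Prop where
  alt : ∀ a : W, β a a = 1
  nondeg : ∀ a : W, (∀ b : W, β a b = 1) → a = 1

/-- The bound for soluble groups of isometries of a pairing on a group of order `e ^ 2`. -/
def SympBound : Prop :=
  ∀ (W : Type) [CommGroup W] [Finite W] (β : W →* W →* ℂˣ), IsSymp β →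
    ∀ m : ℕ, Squarefree m → (∀ w : W, w ^ m = 1) →
      ∀ (X : Type) [Group X] [Finite X], Group.IsSolvable X →
        ∀ f : X →* MulAut W, Function.Injective f → (∀ x a b, β (f x a) (f x b) = β a b) →
          ∃ e : ℕ, Nat.card W = e ^ 2 ∧ k X ≤ 3 ^ (e - 1)

end CfsgLib.SolvClasses
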