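import Cfsg.Agent.Lib.SolvClasses.Steps

/-!
# Irreducible actions and the rank one cases

* `card_le_of_comm`: an irreducible abelian group acts semiregularly;
* `k_aut_four`: automorphism groups of the four-group;
* `k_sl_three`: isometry groups of a pairing on a group of order nine;
* `exists_minimal_invariant`: a minimal invariant subgroup.
-/

set_option autoImplicit false

noncomputable section

namespace CfsgLib.SolvClasses

variable {W : Type} [CommGroup W] [Finite W] {β : W →* W →* ℂˣ} {X : Type} [Group X] [Finite X]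
  {f : X →* MulAut W}

/-- No proper nontrivial invariant subgroup. -/
def Irred (f : X →* MulAut W) : Prop := ∀ U : Subgroup W, Invariant f U → U = ⊥ ∨ U = ⊤

omit [Finite W] [Finite X] in
theorem stab_eq_bot_of_comm (hf : Function.Injective f) (hirr : Irred f) (hcomm : ∀ x y : X, x * y = y * x)
    {v : W} (hv : v ≠ 1) : stab f v = ⊥ := by
  rw [Subgroup.eq_bot_iff_forall]
  intro x hx
  let U : Subgroup W := (f x).toMonoidHom.eqLocus (MonoidHom.id W)
  have hU : Invariant f U := by
    intro y u hu
    show f x (f y u) = f y u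
    rw [← MulAut.mul_apply, ← map_mul, hcomm, map_mul, MulAut.mul_apply, show f x u = u from hu]
  rcases hirr U hU with h | h
  · exact absurd (Subgroup.mem_bot.1 (h ▸ (show v ∈ U from hx))) hv
  · refine hf ((MulEquiv.ext fun w => ?_).trans (map_one f).symm)
    exact (show w ∈ U from h ▸ Subgroup.mem_top w)

theorem card_le_of_comm [Nontrivial W] (hf : Function.Injective f) (hirr : Irred f)
    (hcomm : ∀ x y : X, x * y = y * x) : Nat.card X ≤ Nat.card W - 1 := by
  obtain ⟨v, hv⟩ := exists_ne (1 : W)
  rw [← Subgroup.index_bot, ← stab_eq_bot_of_comm hf hirr hcomm hv]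
  exact index_stab_le_card_sub_one f hv

/-- An irreducible group has at most this many classes. -/
theorem eight_k_le_of_irred [Nontrivial W] (hf : Function.Injective f) (hirr : Irred f) :
    8 * k X ≤ max (5 * Nat.card X) (8 * (Nat.card W - 1)) := by
  by_cases hcomm : ∀ x y : X, x * y = y * x
  · exact le_max_of_le_right (Nat.mul_le_mul_left 8 (k_le_card.trans (card_le_of_comm hf hirr hcomm)))
  · exact le_max_of_le_left (eight_mul_k_le hcomm)

omit [Finite X] in
theorem exists_minimal_invariant (h : ¬ Irred f) :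
    ∃ (U : Subgroup W) (hU : Invariant f U), U ≠ ⊥ ∧ U ≠ ⊤ ∧ Irred (resAct f hU).range.subtype ∧
      (∀ (_ : Preserves β f), U ⊓ perp β U = ⊥ ∨ U ≤ perp β U) := by
  classical
  have hne : {U : Subgroup W | Invariant f U ∧ U ≠ ⊥ ∧ U ≠ ⊤}.Nonempty := by
    simp only [Irred, not_forall, not_or] at h
    obtain ⟨U, hU, h1, h2⟩ := h
    exact ⟨U, hU, h1, h2⟩
  obtain ⟨U, hmin⟩ := (Set.toFinite _).exists_minimal hne
  obtain ⟨hU, hb, ht⟩ := hmin.1
  have key : ∀ V : Subgroup W, V ≤ U → Invariant f V → V = ⊥ ∨ V = U := by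
    intro V hV hVi
    by_contra hc
    push_neg at hc
    exact hc.2 (le_antisymm hV (hmin.2 ⟨hVi, hc.1, fun h => ht (top_le_iff.1 (h ▸ hV))⟩ hV))
  refine ⟨U, hU, hb, ht, fun V hV => ?_, fun hp => ?_⟩
  · have hVi : Invariant f (V.map U.subtype) := by
      rintro x _ ⟨u, hu, rfl⟩
      exact ⟨_, hV ⟨_, x, rfl⟩ u hu, rfl⟩
    rcases key _ (Subgroup.map_subtype_le _) hVi with h1 | h1
    · exact Or.inl ((Subgroup.map_eq_bot_iff_of_injective _ U.subtype_injective).1 h1)
    · right
      rw [eq_top_iff]
      intro u _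
      obtain ⟨u', hu', he⟩ := h1.ge u.2
      rwa [Subtype.ext he] at hu'
  · have hi : Invariant f (U ⊓ perp β U) := fun x u hu => ⟨hU x u hu.1, (hU.perp hp) x u hu.2⟩
    rcases key _ inf_le_left hi with h1 | h1
    · exact Or.inl h1
    · exact Or.inr (inf_eq_left.1 h1)

theorem k_le_three_of_card_le_six (h6 : Nat.card X ≤ 6) (hcomm : (∀ x y : X, x * y = y * x) → Nat.card X ≤ 3) :
    k X ≤ 3 := by
  by_cases h : ∀ x y : X, x * y = y * x
  · exact k_le_card.trans (hcomm h)
  · have := eight_mul_k_le h
    omega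

theorem k_aut_four (hexp : ∀ w : W, w ^ 2 = 1) (hW : Nat.card W = 4) (hf : Function.Injective f) : k X ≤ 3 := by
  refine k_le_three_of_card_le_six ((card_le_glAux Nat.prime_two hexp hf (n := 2) hW).trans
    (by norm_num [glAux])) fun hcomm => ?_
  have : Nontrivial W := Finite.one_lt_card_iff_nontrivial.1 (by omega)
  by_cases hirr : Irred f
  · exact (card_le_of_comm hf hirr hcomm).trans (by omega)
  · simp only [Irred, not_forall, not_or] at hirr
    obtain ⟨U, hU, h1, h2⟩ := hirr
    have hc : Nat.card U = 2 := by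
      have hd : Nat.card U ∣ 4 := hW ▸ U.card_subgroup_dvd_card
      have h3 : Nat.card U ≠ 1 := fun h => h1 (Subgroup.card_eq_one.1 h)
      have h4 : Nat.card U ≠ 4 := fun h => h2 (Subgroup.eq_top_of_card_eq U (h.trans hW.symm))
      have h5 := Nat.le_of_dvd (by norm_num) hd
      interval_cases hu : Nat.card U <;> simp_all
    have hfix : ptStab f U = ⊤ := by
      rw [eq_top_iff]
      intro x _ u hu
      obtain ⟨a, b, hab, huniv⟩ := Nat.card_eq_two_iff.1 hc
      by_cases hu1 : u = 1
      · rw [hu1, map_one]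
      · have hx1 : f x u ≠ 1 := fun h => hu1 ((f x).map_eq_one_iff.1 h)
        have key : ∀ y z : U, y ≠ 1 → z ≠ 1 → y = z := by
          intro y z hy hz
          have h6 : ∀ y : U, y = a ∨ y = b := fun y => by
            have h7 : y ∈ ({a, b} : Set U) := huniv ▸ Set.mem_univ y
            simpa using h7
          rcases h6 y, h6 z, h6 1 with ⟨rfl | rfl, rfl | rfl, h8 | h8⟩ <;> simp_all
        exact congrArg Subtype.val (key ⟨f x u, hU x u hu⟩ ⟨u, hu⟩
          (fun h => hx1 (congrArg Subtype.val h)) fun h => hu1 (congrArg Subtype.val h))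
    have h := card_ptStab_le Nat.prime_two hexp hf (n := 2) hW 1 U (by rw [hc]; norm_num)
    rw [hfix, Subgroup.card_top] at h
    exact h.trans (by norm_num [glAux])

section SLThree

open Matrix

local notation "S" => Matrix.SpecialLinearGroup (Fin 2) (ZMod 3)

theorem sl_three_facts :
    Fintype.card S = 24 ∧
    (Finset.univ.filter fun p : S × S => p.1 * p.2 = p.2 * p.1).card = 168 ∧
    (∀ g : S, (Finset.univ.filter fun h : S => g * h = h * g).card ≤ 6 ∨ ∀ h : S, g * h = h * g) ∧
    (Finset.univ.filter fun g : S => ∀ h : S, g * h = h * g).card = 2 ∧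
    (∀ g : S, ∃ a b : S, g = a * a * (b * b)) := by
  refine ⟨?_, ?_, ?_, ?_, ?_⟩ <;> decide +kernel

theorem k_subgroup_sl_three (H : Subgroup S) : k H ≤ 7 := by
  classical
  obtain ⟨h24, h168, hcent, hz, hsq⟩ := sl_three_facts
  have hcard : Nat.card S = 24 := by rw [Nat.card_eq_fintype_card, h24]
  by_cases htop : H = ⊤
  · subst htop
    rw [k_congr Subgroup.topEquiv]
    have h := card_comm_eq_card_conjClasses_mul_card S
    rw [Nat.card_eq_fintype_card (α := { p : S × S // Commute p.1 p.2 }), Fintype.card_subtype, hcard] at h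
    have h' : (Finset.univ.filter fun p : S × S => Commute p.1 p.2).card = 168 := by
      rw [← h168]; exact congrArg Finset.card (Finset.filter_congr fun p _ => Iff.rfl)
    rw [h'] at h
    show Nat.card (ConjClasses S) ≤ 7
    omega
  · have hd : Nat.card H ∣ 24 := hcard ▸ H.card_subgroup_dvd_card
    have h12 : Nat.card H ≠ 12 := by
      intro h
      have hi : H.index = 2 := by
        have := H.card_mul_index
        rw [h, hcard] at this
        omega
      refine htop (eq_top_iff.2 fun g _ => ?_)
      obtain ⟨a, b, rfl⟩ := hsq g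
      have h2 : ∀ a : S, a * a ∈ H := fun a => Subgroup.mul_self_mem_of_index_two hi a
      exact mul_mem (h2 a) (h2 b)
    have h24' : Nat.card H ≠ 24 := fun h => htop (Subgroup.eq_top_of_card_eq H (h.trans hcard.symm))
    have h8 : Nat.card H ≤ 8 := by
      have := Nat.le_of_dvd (by norm_num) hd
      interval_cases hH : Nat.card H <;> simp_all
    by_cases hab : ∀ a b : H, a * b = b * a
    · refine k_le_card.trans ?_
      by_contra hgt
      have hall : ∀ g : H, ∀ h : S, (g : S) * h = h * g := by
        intro g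
        refine (hcent g).resolve_left fun h6 => ?_
        have : Nat.card H ≤ (Finset.univ.filter fun h : S => (g : S) * h = h * g).card := by
          rw [Nat.card_eq_fintype_card]
          exact Finset.card_le_card_of_injOn (fun h : H => (h : S))
            (fun h _ => Finset.mem_filter.2 ⟨Finset.mem_univ _, congrArg Subtype.val (hab g h)⟩)
            (fun a _ b _ hab' => Subtype.ext hab')
        omega
      have : Nat.card H ≤ 2 := by
        refine le_trans ?_ hz.le
        rw [Nat.card_eq_fintype_card]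
        exact Finset.card_le_card_of_injOn (fun h : H => (h : S))
          (fun h _ => Finset.mem_filter.2 ⟨Finset.mem_univ _, hall h⟩) (fun a _ b _ hab' => Subtype.ext hab')
      omega
    · have := eight_mul_k_le hab
      omega

theorem k_sl_three (hβ : IsSymp β) (hexp : ∀ w : W, w ^ 3 = 1) (hW : Nat.card W = 9) (hf : Function.Injective f)
    (hp : Preserves β f) : k X ≤ 7 := by
  classical
  have hn : Nontrivial W := Finite.one_lt_card_iff_nontrivial.1 (by omega)
  obtain ⟨u, hu⟩ := exists_ne (1 : W)
  obtain ⟨v, hv⟩ : ∃ v, β u v ≠ 1 := by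
    by_contra h
    push_neg at h
    exact hu (hβ.nondeg u h)
  have hz : ∀ (w : W) (n : ℤ), w ^ (((n : ZMod 3)).val : ℤ) = w ^ n := by
    intro w n
    refine zpow_eq_zpow_iff_modEq.2 (Int.ModEq.of_dvd (Int.natCast_dvd_natCast.2 (orderOf_dvd_of_pow_eq_one (hexp w))) ?_)
    rw [← ZMod.intCast_eq_intCast_iff]
    simp
  have hz' : ∀ (c : ℂˣ) (n : ℤ), c ^ 3 = 1 → c ^ (((n : ZMod 3)).val : ℤ) = c ^ n := by
    intro c n hc
    refine zpow_eq_zpow_iff_modEq.2 (Int.ModEq.of_dvd (Int.natCast_dvd_natCast.2 (orderOf_dvd_of_pow_eq_one hc)) ?_)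
    rw [← ZMod.intCast_eq_intCast_iff]
    simp
  let p : ZMod 3 × ZMod 3 → W := fun a => u ^ (a.1.val : ℤ) * v ^ (a.2.val : ℤ)
  have hp' : ∀ i j : ℤ, p ((i : ZMod 3), (j : ZMod 3)) = u ^ i * v ^ j := fun i j => by
    show _ * _ = _
    rw [hz, hz]
  have hmul : ∀ a b, p (a + b) = p a * p b := by
    intro a b
    have := hp' ((a.1.val : ℤ) + b.1.val) ((a.2.val : ℤ) + b.2.val)
    simp only [Int.cast_add, Int.cast_natCast, ZMod.natCast_zmod_val] at this
    rw [show a + b = (a.1 + b.1, a.2 + b.2) from rfl, this, _root_.zpow_add, _root_.zpow_add]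
    exact mul_mul_mul_comm _ _ _ _
  have hord : orderOf (β u v) = 3 := by
    refine orderOf_eq_prime ?_ hv
    rw [← map_pow, hexp, map_one]
  have hpinj : Function.Injective p := by
    intro a b hab
    have h1 : ∀ i j : ℤ, β (u ^ i * v ^ j) v = β u v ^ i := fun i j => by
      simp [map_zpow, hβ.alt]
    have h2 : ∀ i j : ℤ, β u (u ^ i * v ^ j) = β u v ^ j := fun i j => by
      simp [map_zpow, hβ.alt]
    have e1 := congrArg (fun w => β w v) hab
    have e2 := congrArg (fun w => β u w) hab
    simp only [p, h1, h2] at e1 e2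
    rw [zpow_eq_zpow_iff_modEq, hord, ← ZMod.intCast_eq_intCast_iff] at e1 e2
    simp only [Int.cast_natCast, ZMod.natCast_zmod_val] at e1 e2
    exact Prod.ext e1 e2
  have hpb : Function.Bijective p := (Nat.bijective_iff_injective_and_card p).2
    ⟨hpinj, by rw [Nat.card_prod, Nat.card_zmod, hW]⟩
  let c : W → ZMod 3 × ZMod 3 := (Equiv.ofBijective p hpb).symm
  have hc : ∀ w, p (c w) = w := fun w => (Equiv.ofBijective p hpb).apply_symm_apply w
  have hcp : ∀ a, c (p a) = a := fun a => (Equiv.ofBijective p hpb).symm_apply_apply a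
  have hcmul : ∀ a b, c (a * b) = c a + c b := fun a b => hpinj (by rw [hc, hmul, hc, hc])
  have hcpow : ∀ (a : W) (n : ℤ), c (a ^ n) = (n : ZMod 3) • c a := by
    intro a n
    let ch : Additive W →+ ZMod 3 × ZMod 3 := AddMonoidHom.mk' (fun w => c (Additive.toMul w)) fun x y => hcmul _ _
    have h := map_zsmul ch n (Additive.ofMul a)
    rw [← Int.cast_smul_eq_zsmul (ZMod 3) n (ch (Additive.ofMul a))] at h
    exact h
  have hcu : c u = (1, 0) := by
    have := hcp (((1 : ℤ) : ZMod 3), ((0 : ℤ) : ZMod 3))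
    rw [hp'] at this
    simpa using this
  have hcv : c v = (0, 1) := by
    have := hcp (((0 : ℤ) : ZMod 3), ((1 : ℤ) : ZMod 3))
    rw [hp'] at this
    simpa using this
  let mat : X → Matrix (Fin 2) (Fin 2) (ZMod 3) := fun x =>
    !![(c (f x u)).1, (c (f x v)).1; (c (f x u)).2, (c (f x v)).2]
  have hlin : ∀ (e : MulAut W) (w : W), c (e w) =
      ((c w).1 * (c (e u)).1 + (c w).2 * (c (e v)).1, (c w).1 * (c (e u)).2 + (c w).2 * (c (e v)).2) := by
    intro e w
    conv_lhs => rw [← hc w]
    show c (e (u ^ ((c w).1.val : ℤ) * v ^ ((c w).2.val : ℤ))) = _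
    rw [map_mul, map_zpow, map_zpow, hcmul, hcpow, hcpow]
    ext <;> simp
  have hdet : ∀ x, (mat x).det = 1 := by
    intro x
    have hb : ∀ a b : W, β a b = β u v ^ (((c a).1 * (c b).2 - (c a).2 * (c b).1).val : ℤ) := by
      intro a b
      conv_lhs => rw [← hc a, ← hc b]
      have hpow : β u v ^ 3 = 1 := by rw [← hord, pow_orderOf_eq_one]
      have hvu : β v u = (β u v)⁻¹ := eq_inv_of_mul_eq_one_right (hβ.swap u v)
      have e : ((c a).1 * (c b).2 - (c a).2 * (c b).1) =
          ((((c a).1.val : ℤ) * (c b).2.val - ((c a).2.val : ℤ) * (c b).1.val : ℤ) : ZMod 3) := by simp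
      rw [e, hz' _ _ hpow]
      simp only [p, map_mul, map_zpow, MonoidHom.mul_apply, MonoidHom.zpow_apply, hβ.alt, hvu, _root_.one_zpow, one_mul,
        mul_one, ← _root_.zpow_mul, _root_.inv_zpow', ← _root_.zpow_add]
      congr 1
      ring
    have h1 := hb (f x u) (f x v)
    rw [hp, ← zpow_one (β u v)] at h1
    rw [← _root_.zpow_mul, one_mul, zpow_eq_zpow_iff_modEq, hord, ← ZMod.intCast_eq_intCast_iff] at h1
    simp only [Int.cast_natCast, ZMod.natCast_zmod_val, Int.cast_one] at h1
    rw [Matrix.det_fin_two_of, h1]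
    ring
  let φ : X →* S :=
    { toFun := fun x => ⟨mat x, hdet x⟩
      map_one' := by
        apply Subtype.ext
        show !![_, _; _, _] = _
        simp [hcu, hcv, Matrix.one_fin_two]
      map_mul' := fun x y => by
        apply Subtype.ext
        show mat (x * y) = mat x * mat y
        simp only [mat, map_mul, MulAut.mul_apply, hlin (f x) (f y u), hlin (f x) (f y v), Matrix.mul_fin_two]
        ext i j
        fin_cases i <;> fin_cases j <;> simp <;> ring }
  have hφ : Function.Injective φ := by
    intro x y hxy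
    have hm : mat x = mat y := congrArg Subtype.val hxy
    have e00 := congrFun (congrFun hm 0) 0
    have e01 := congrFun (congrFun hm 0) 1
    have e10 := congrFun (congrFun hm 1) 0
    have e11 := congrFun (congrFun hm 1) 1
    simp [mat] at e00 e01 e10 e11
    refine hf (MulEquiv.ext fun w => (Equiv.ofBijective p hpb).symm.injective ?_)
    show c (f x w) = c (f y w)
    rw [hlin (f x) w, hlin (f y) w, e00, e01, e10, e11]
  exact (k_congr (MonoidHom.ofInjective hφ)).trans_le (k_subgroup_sl_three φ.range)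

end SLThree

end CfsgLib.SolvClasses
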