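import Cfsg.Agent.Lib.SolvClasses.Blocks
import Cfsg.Agent.Lib.Solvable.Fitting

/-!
# Soluble linear groups whose abelian normal subgroups consist of scalars

* `exists_pairing`: the Fitting subgroup modulo scalars carries a pairing on which the quotient acts;
* `quotient_fitting_subBound`: the main induction, given the symplectic bound.
-/

set_option autoImplicit false

noncomputable section

namespace CfsgLib.SolvClasses

open Module Cfsg CfsgLib.Cores

variable {G : Type} [Group G] [Finite G] {V : Type} [AddCommGroup V] [Module ℂ V] [FiniteDimensional ℂ V]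

/-- The elements represented by scalars. -/
def scalars (ρ : G →* Module.End ℂ V) : Subgroup G where
  carrier := {g | ∃ c : ℂ, ρ g = c • 1}
  one_mem' := ⟨1, by simp⟩
  mul_mem' := by
    rintro a b ⟨c, hc⟩ ⟨d, hd⟩
    exact ⟨c * d, by rw [map_mul, hc, hd, smul_mul_smul_comm, one_mul]⟩
  inv_mem' := by
    rintro a ⟨c, hc⟩
    have h1 : ρ a⁻¹ * ρ a = 1 := by rw [← map_mul, inv_mul_cancel, map_one]
    rw [hc, mul_smul_comm, mul_one] at h1
    rcases eq_or_ne c 0 with rfl | h0
    · rw [zero_smul] at h1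
      exact ⟨0, by rw [← one_mul (ρ a⁻¹), ← h1]; simp⟩
    · exact ⟨c⁻¹, by rw [← h1, inv_smul_smul₀ h0]⟩

theorem mem_scalars {ρ : G →* Module.End ℂ V} {g : G} : g ∈ scalars ρ ↔ ∃ c : ℂ, ρ g = c • 1 := Iff.rfl

theorem scalars_comm (ρ : G →* Module.End ℂ V) (hinj : Function.Injective ρ) {z : G} (hz : z ∈ scalars ρ)
    (g : G) : g * z = z * g := by
  obtain ⟨c, hc⟩ := hz
  apply hinj
  rw [map_mul, map_mul, hc, mul_smul_comm, smul_mul_assoc, mul_one, one_mul]

variable [Nontrivial V]

omit [Finite G] [FiniteDimensional ℂ V] in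
theorem scalar_ne_zero (ρ : G →* Module.End ℂ V) {g : G} {c : ℂ} (h : ρ g = c • 1) : c ≠ 0 := by
  rintro rfl
  have h1 : ρ g * ρ g⁻¹ = 1 := by rw [← map_mul, mul_inv_cancel, map_one]
  rw [h, zero_smul, zero_mul] at h1
  exact zero_ne_one h1

omit [FiniteDimensional ℂ V] in
theorem smul_one_inj {c d : ℂ} (h : c • (1 : Module.End ℂ V) = d • 1) : c = d := by
  obtain ⟨v, hv⟩ := exists_ne (0 : V)
  have h1 : c • v = d • v := LinearMap.congr_fun h v
  rw [← sub_eq_zero, ← sub_smul, smul_eq_zero] at h1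
  exact sub_eq_zero.1 (h1.resolve_right hv)

/-- The scalar by which an element of `scalars ρ` acts. -/
def coef (ρ : G →* Module.End ℂ V) : scalars ρ →* ℂˣ where
  toFun z := Units.mk0 (Classical.choose (mem_scalars.1 z.2))
    (scalar_ne_zero ρ (Classical.choose_spec (mem_scalars.1 z.2)))
  map_one' := Units.ext (smul_one_inj (V := V) (by
    rw [Units.val_mk0, ← Classical.choose_spec (mem_scalars.1 (1 : scalars ρ).2)]
    simp))
  map_mul' z w := Units.ext (smul_one_inj (V := V) (by
    have h1 := Classical.choose_spec (mem_scalars.1 z.2)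
    have h2 := Classical.choose_spec (mem_scalars.1 w.2)
    have h3 := Classical.choose_spec (mem_scalars.1 (z * w).2)
    rw [Units.val_mul, Units.val_mk0, Units.val_mk0, Units.val_mk0]
    refine h3.symm.trans ?_
    rw [Subgroup.coe_mul, map_mul]
    refine (congrArg₂ (· * ·) h1 h2).trans ?_
    rw [smul_mul_smul_comm, one_mul]))

theorem coef_spec (ρ : G →* Module.End ℂ V) (z : scalars ρ) : ρ (z : G) = (coef ρ z : ℂ) • 1 :=
  Classical.choose_spec (mem_scalars.1 z.2)

theorem coef_injective (ρ : G →* Module.End ℂ V) (hinj : Function.Injective ρ) : Function.Injective (coef ρ) :=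
  fun z w h => Subtype.ext (hinj (by rw [coef_spec, coef_spec, h]))

variable (ρ : G →* Module.End ℂ V) (hinj : Function.Injective ρ)
  (hsc : ∀ A : Subgroup G, A.Normal → (∀ a ∈ A, ∀ b ∈ A, a * b = b * a) → A ≤ scalars ρ)

include hinj hsc

omit [Nontrivial V] in
/-- Commutators in the Fitting subgroup are scalar. -/
theorem commutator_mem_scalars {x y : G} (hx : x ∈ fittingSubgroup G) (hy : y ∈ fittingSubgroup G) :
    x * y * x⁻¹ * y⁻¹ ∈ scalars ρ := by
  classical
  set F := fittingSubgroup G with hF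
  have hnil : Group.IsNilpotent F := isNilpotent_fittingSubgroup
  have hFn : F.Normal := fittingSubgroup_normal
  set D : Subgroup G := ⁅F, F⁆ with hD
  have hDn : D.Normal := Subgroup.commutator_normal F F
  suffices hDs : D ≤ scalars ρ from hDs (Subgroup.commutator_mem_commutator hx hy)
  -- elements of `D` which centralize `F` modulo scalars form an abelian normal subgroup
  let E : Subgroup G :=
    { carrier := {d | d ∈ D ∧ ∀ f ∈ F, d * f * d⁻¹ * f⁻¹ ∈ scalars ρ}
      one_mem' := ⟨one_mem _, fun f _ => by simp⟩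
      mul_mem' := by
        rintro a b ⟨ha, ha'⟩ ⟨hb, hb'⟩
        refine ⟨mul_mem ha hb, fun f hf => ?_⟩
        have h1 := hb' f hf
        have e : a * b * f * (a * b)⁻¹ * f⁻¹ = a * (b * f * b⁻¹ * f⁻¹) * a⁻¹ * (a * f * a⁻¹ * f⁻¹) := by group
        rw [e, scalars_comm ρ hinj h1 a, mul_inv_cancel_right]
        exact mul_mem h1 (ha' f hf)
      inv_mem' := by
        rintro a ⟨ha, ha'⟩
        refine ⟨inv_mem ha, fun f hf => ?_⟩
        have h1 := inv_mem (ha' f hf)
        have e : a⁻¹ * f * a⁻¹⁻¹ * f⁻¹ = a⁻¹ * (a * f * a⁻¹ * f⁻¹)⁻¹ * a := by group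
        rw [e, scalars_comm ρ hinj h1 a⁻¹, inv_mul_cancel_right]
        exact h1 }
  have hEn : E.Normal := by
    refine ⟨fun d hd g => ⟨hDn.conj_mem d hd.1 g, fun f hf => ?_⟩⟩
    have hf' : g⁻¹ * f * g ∈ F := by simpa using hFn.conj_mem f hf g⁻¹
    have h1 := hd.2 _ hf'
    have e : g * d * g⁻¹ * f * (g * d * g⁻¹)⁻¹ * f⁻¹ =
        g * (d * (g⁻¹ * f * g) * d⁻¹ * (g⁻¹ * f * g)⁻¹) * g⁻¹ := by group
    rw [e, scalars_comm ρ hinj h1 g, mul_inv_cancel_right]
    exact h1
  have hEs : E ≤ scalars ρ := by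
    refine hsc E hEn fun d hd e he => ?_
    -- `d` commutes with every commutator of elements of `F`
    have hcomm : D ≤ Subgroup.centralizer {d} := by
      rw [hD, Subgroup.commutator_le]
      intro a ha b hb
      rw [Subgroup.mem_centralizer_singleton_iff, commutatorElement_def]
      obtain ⟨za, hza, ea⟩ : ∃ za ∈ scalars ρ, d * a * d⁻¹ = za * a := ⟨_, hd.2 a ha, by group⟩
      obtain ⟨zb, hzb, eb⟩ : ∃ zb ∈ scalars ρ, d * b * d⁻¹ = zb * b := ⟨_, hd.2 b hb, by group⟩
      have e1 : d * (a * b * a⁻¹ * b⁻¹) * d⁻¹ = a * b * a⁻¹ * b⁻¹ := by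
        calc d * (a * b * a⁻¹ * b⁻¹) * d⁻¹
            = (d * a * d⁻¹) * (d * b * d⁻¹) * (d * a * d⁻¹)⁻¹ * (d * b * d⁻¹)⁻¹ := by group
          _ = za * (a * zb) * b * a⁻¹ * za⁻¹ * b⁻¹ * zb⁻¹ := by rw [ea, eb]; group
          _ = za * zb * (a * b * a⁻¹ * za⁻¹) * b⁻¹ * zb⁻¹ := by rw [scalars_comm ρ hinj hzb a]; group
          _ = zb * (a * b * a⁻¹ * b⁻¹ * zb⁻¹) := by
              rw [scalars_comm ρ hinj (inv_mem hza) (a * b * a⁻¹), (scalars_comm ρ hinj hzb za)]; group
          _ = a * b * a⁻¹ * b⁻¹ := by rw [scalars_comm ρ hinj (inv_mem hzb) (a * b * a⁻¹ * b⁻¹)]; group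
      exact (mul_inv_eq_iff_eq_mul.1 e1).symm
    exact (Subgroup.mem_centralizer_singleton_iff.1 (hcomm he.1)).symm
  by_contra hDs
  obtain ⟨d₀, hd₀, hd₀'⟩ := SetLike.not_le_iff_exists.1 hDs
  have hDF : D ≤ F := Subgroup.commutator_le_left F F
  have hex : ∃ i : ℕ, ∃ d : F, d ∈ Subgroup.upperCentralSeries F i ∧ (d : G) ∈ D ∧ (d : G) ∉ scalars ρ :=
    ⟨Group.nilpotencyClass F, ⟨d₀, hDF hd₀⟩, by rw [Subgroup.upperCentralSeries_nilpotencyClass]; trivial, hd₀, hd₀'⟩
  obtain ⟨d, hd1, hd2, hd3⟩ := Nat.find_spec hex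
  rcases h0 : Nat.find hex with _ | i
  · rw [h0, Subgroup.upperCentralSeries_zero, Subgroup.mem_bot] at hd1
    exact hd3 (by rw [hd1]; exact one_mem _)
  · rw [h0] at hd1
    refine hd3 (hEs ⟨hd2, fun f hf => ?_⟩)
    by_contra hns
    refine Nat.find_min hex (m := i) (by omega)
      ⟨d * ⟨f, hf⟩ * d⁻¹ * ⟨f, hf⟩⁻¹, Subgroup.mem_upperCentralSeries_succ_iff.1 hd1 ⟨f, hf⟩, ?_, hns⟩
    have h1 := hDn.conj_mem _ (inv_mem hd2) f
    simpa [mul_assoc] using mul_mem hd2 h1

/-- The Fitting subgroup modulo scalars. -/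
theorem exists_pairing [hF : (fittingSubgroup G).Normal] [Group.IsSolvable G] :
    ∃ (W : Type) (_ : CommGroup W) (_ : Finite W) (β : W →* W →* ℂˣ) (m : ℕ) (f : G ⧸ fittingSubgroup G →* MulAut W),
      IsSymp β ∧ Squarefree m ∧ (∀ w : W, w ^ m = 1) ∧ Function.Injective f ∧
        (∀ x a b, β (f x a) (f x b) = β a b) ∧ Nat.card W ≤ finrank ℂ V ^ 2 := by
  classical
  set F := fittingSubgroup G with hFdef
  let Z : Subgroup F := (scalars ρ).subgroupOf F
  have hZn : Z.Normal := ⟨fun z hz x => by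
    rw [Subgroup.mem_subgroupOf] at hz ⊢
    simp only [Subgroup.coe_mul, InvMemClass.coe_inv]
    rwa [scalars_comm ρ hinj hz, mul_inv_cancel_right]⟩
  let W := F ⧸ Z
  let : CommGroup W :=
    { (inferInstance : Group W) with
      mul_comm := by
        intro a b
        obtain ⟨a, rfl⟩ := QuotientGroup.mk'_surjective Z a
        obtain ⟨b, rfl⟩ := QuotientGroup.mk'_surjective Z b
        refine (QuotientGroup.eq.2 ?_)
        rw [Subgroup.mem_subgroupOf]
        simpa [mul_assoc] using commutator_mem_scalars ρ hinj hsc (inv_mem b.2) (inv_mem a.2) }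
  -- the commutator as a scalar
  let cm : F → F → ℂˣ := fun x y => coef ρ ⟨_, commutator_mem_scalars ρ hinj hsc x.2 y.2⟩
  have cm_spec : ∀ x y : F, ρ ((x : G) * y) = (cm x y : ℂ) • ρ ((y : G) * x) := by
    intro x y
    have h := coef_spec ρ ⟨_, commutator_mem_scalars ρ hinj hsc x.2 y.2⟩
    rw [show (x : G) * y = ((x : G) * y * (x : G)⁻¹ * (y : G)⁻¹) * (y * x) by group, map_mul, h,
      smul_mul_assoc, one_mul]
  have hmulr : ∀ x y z : F, cm x (y * z) = cm x y * cm x z := by
    intro x y z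
    show coef ρ _ = coef ρ _ * coef ρ _
    rw [← map_mul]
    congr 1
    refine Subtype.ext ?_
    show (x : G) * ((y : G) * z) * (x : G)⁻¹ * ((y : G) * z)⁻¹ = _
    have h2 := commutator_mem_scalars ρ hinj hsc x.2 z.2
    rw [show (x : G) * ((y : G) * z) * (x : G)⁻¹ * ((y : G) * z)⁻¹ = ((x : G) * y * (x : G)⁻¹) *
      ((x : G) * z * (x : G)⁻¹ * (z : G)⁻¹) * (y : G)⁻¹ by group, mul_assoc _ _ (y : G)⁻¹,
      ← scalars_comm ρ hinj h2 ((y : G)⁻¹), ← mul_assoc]
    rfl
  have hswap : ∀ x y : F, cm x y * cm y x = 1 := by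
    intro x y
    show coef ρ _ * coef ρ _ = 1
    rw [← map_mul, ← map_one (coef ρ)]
    congr 1
    refine Subtype.ext ?_
    show ((x : G) * y * (x : G)⁻¹ * (y : G)⁻¹) * ((y : G) * x * (y : G)⁻¹ * (x : G)⁻¹) = 1
    group
  have hmull : ∀ x y z : F, cm (x * y) z = cm x z * cm y z := by
    intro x y z
    rw [eq_inv_of_mul_eq_one_left (hswap (x * y) z), eq_inv_of_mul_eq_one_left (hswap x z),
      eq_inv_of_mul_eq_one_left (hswap y z), hmulr, mul_inv]
  have hZr : ∀ (x : F), ∀ z ∈ Z, cm x z = 1 := by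
    intro x z hz
    rw [← map_one (coef ρ)]
    show coef ρ _ = coef ρ 1
    congr 1
    refine Subtype.ext ?_
    show (x : G) * z * (x : G)⁻¹ * (z : G)⁻¹ = 1
    rw [scalars_comm ρ hinj (Subgroup.mem_subgroupOf.1 hz) (x : G)]
    group
  let hom2 : F → (W →* ℂˣ) := fun x =>
    QuotientGroup.lift Z (MonoidHom.mk' (fun y => cm x y) (hmulr x)) fun z hz => hZr x z hz
  let β : W →* W →* ℂˣ :=
    QuotientGroup.lift Z (MonoidHom.mk' hom2 fun x y =>
      MonoidHom.ext fun w => by
        obtain ⟨w, rfl⟩ := QuotientGroup.mk'_surjective Z w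
        exact hmull x y w)
      fun z hz => MonoidHom.ext fun w => by
        obtain ⟨w, rfl⟩ := QuotientGroup.mk'_surjective Z w
        show cm z w = 1
        have h := hswap z w
        rwa [hZr w z hz, mul_one] at h
  have hβ : ∀ x y : F, β (QuotientGroup.mk x) (QuotientGroup.mk y) = cm x y := fun _ _ => rfl
  have hcm1 : ∀ x y : F, cm x y = 1 → (x : G) * y = y * x := by
    intro x y h
    apply hinj
    rw [cm_spec x y, h, Units.val_one, one_smul]
  have hcen : ∀ x : F, (∀ y : F, cm x y = 1) → x ∈ Z := by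
    intro x hx
    have h1 : (x : G) ∈ F ⊓ Subgroup.centralizer (F : Set G) :=
      ⟨x.2, Subgroup.mem_centralizer_iff.2 fun y hy => (hcm1 x ⟨y, hy⟩ (hx _)).symm⟩
    exact hsc (F ⊓ Subgroup.centralizer (F : Set G)) inferInstance
      (fun a ha b hb => (Subgroup.mem_centralizer_iff.1 hb.2 a ha.1)) h1
  have hsymp : IsSymp β := by
    constructor
    · intro a
      obtain ⟨a, rfl⟩ := QuotientGroup.mk'_surjective Z a
      show cm a a = 1
      rw [← map_one (coef ρ)]
      show coef ρ _ = coef ρ 1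
      congr 1
      refine Subtype.ext ?_
      show (a : G) * a * (a : G)⁻¹ * (a : G)⁻¹ = 1
      group
    · intro a ha
      obtain ⟨a, rfl⟩ := QuotientGroup.mk'_surjective Z a
      exact (QuotientGroup.eq_one_iff a).2 (hcen a fun y => ha (QuotientGroup.mk y))
  -- the exponent
  have hpow : ∀ (x : F) (i : ℕ) (y : F), cm (x ^ i) y = cm x y ^ i := fun x i y =>
    map_pow (MonoidHom.mk' (fun z => cm z y) fun a b => hmull a b y) x i
  have hpow' : ∀ (x : F) (y : F) (i : ℕ), cm x (y ^ i) = cm x y ^ i := fun x y i =>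
    map_pow (MonoidHom.mk' (fun z => cm x z) (hmulr x)) y i
  set m := Monoid.exponent W with hm
  have hm0 : m ≠ 0 := Monoid.exponent_ne_zero_of_finite
  have hpowZ : ∀ x : F, x ^ m ∈ Z := fun x => by
    rw [← QuotientGroup.eq_one_iff, QuotientGroup.mk_pow]
    exact Monoid.pow_exponent_eq_one _
  have hsq : Squarefree m := by
    rw [Nat.squarefree_iff_prime_squarefree]
    intro r hr hdvd
    obtain ⟨j, hj⟩ := hdvd
    set i := r * j with hi
    have hmi : m ∣ i * i := ⟨j, by rw [hi, hj]; ring⟩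
    set J : Subgroup G := Subgroup.closure (Set.range fun x : F => (x : G) ^ i) with hJdef
    have hJn : J.Normal := by
      refine ⟨fun a ha g => ?_⟩
      induction ha using Subgroup.closure_induction with
      | mem a ha =>
        obtain ⟨x, rfl⟩ := ha
        exact Subgroup.subset_closure ⟨⟨g * x * g⁻¹, hF.conj_mem x x.2 g⟩, conj_pow⟩
      | one => simp
      | mul a b _ _ ha hb => rw [conj_mul.symm]; exact mul_mem ha hb
      | inv a _ ha => rw [← conj_inv]; exact inv_mem ha
    have hJc : ∀ a ∈ J, ∀ b ∈ J, a * b = b * a := by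
      intro a ha b hb
      refine Subgroup.closure_induction₂ (p := fun x y _ _ => Commute x y) ?_ (fun _ _ => Commute.one_left _)
        (fun _ _ => Commute.one_right _) (fun _ _ _ _ _ _ h1 h2 => h1.mul_left h2)
        (fun _ _ _ _ _ _ h1 h2 => h1.mul_right h2) (fun _ _ _ _ h => h.inv_left) (fun _ _ _ _ h => h.inv_right) ha hb
      rintro _ _ ⟨x, rfl⟩ ⟨y, rfl⟩
      refine hcm1 (x ^ i) (y ^ i) ?_
      obtain ⟨l, hl⟩ := hmi
      rw [hpow, hpow', ← pow_mul, hl, ← hpow' x y, pow_mul]
      exact hZr x _ (pow_mem (hpowZ y) l)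
    have hdv : m ∣ i := by
      refine Monoid.exponent_dvd_of_forall_pow_eq_one fun w => ?_
      obtain ⟨x, rfl⟩ := QuotientGroup.mk'_surjective Z w
      rw [← map_pow]
      refine (QuotientGroup.eq_one_iff _).2 ?_
      show ((x ^ i : F) : G) ∈ scalars ρ
      exact hsc J hJn hJc (Subgroup.subset_closure ⟨x, rfl⟩)
    have h0 : 0 < i := Nat.pos_of_ne_zero fun h => hm0 (by rw [hj, mul_assoc, ← hi, h, mul_zero])
    have h1 := Nat.le_of_dvd h0 hdv
    rw [hj, mul_assoc, ← hi] at h1
    nlinarith [hr.two_le]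
  -- the action
  let act : G → (W →* W) := fun g =>
    QuotientGroup.map Z Z (MulAut.conjNormal g : F ≃* F).toMonoidHom fun z hz => by
      show ((MulAut.conjNormal g z : F) : G) ∈ scalars ρ
      rw [MulAut.conjNormal_apply, scalars_comm ρ hinj (Subgroup.mem_subgroupOf.1 hz), mul_inv_cancel_right]
      exact hz
  have hact : ∀ (g : G) (x : F), act g (QuotientGroup.mk x) = QuotientGroup.mk (MulAut.conjNormal g x) :=
    fun _ _ => rfl
  have hact1 : act 1 = MonoidHom.id W := MonoidHom.ext fun w => by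
    obtain ⟨x, rfl⟩ := QuotientGroup.mk'_surjective Z w
    simp only [QuotientGroup.mk'_apply, hact, map_one, MulAut.one_apply, MonoidHom.id_apply]
  have hactmul : ∀ g h, act (g * h) = (act g).comp (act h) := fun g h => MonoidHom.ext fun w => by
    obtain ⟨x, rfl⟩ := QuotientGroup.mk'_surjective Z w
    simp only [QuotientGroup.mk'_apply, hact, map_mul, MulAut.mul_apply, MonoidHom.comp_apply]
  let fG : G →* MulAut W :=
    { toFun := fun g => MonoidHom.toMulEquiv (act g) (act g⁻¹)
        (by rw [← hactmul, inv_mul_cancel, hact1]) (by rw [← hactmul, mul_inv_cancel, hact1])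
      map_one' := MulEquiv.ext fun w => DFunLike.congr_fun hact1 w
      map_mul' := fun g h => MulEquiv.ext fun w => DFunLike.congr_fun (hactmul g h) w }
  have hfG : ∀ (g : G) (x : F), fG g (QuotientGroup.mk x) = QuotientGroup.mk (MulAut.conjNormal g x) :=
    fun g x => hact g x
  have hker : fG.ker = F := by
    refine le_antisymm (fun g hg => ?_) fun y hy => ?_
    · have hg' : ∀ x : F, (g * x * g⁻¹ * (x : G)⁻¹) ∈ scalars ρ := by
        intro x
        have h1 := congrArg (fun e : MulAut W => e (QuotientGroup.mk x)) (MonoidHom.mem_ker.1 hg)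
        simp only [hfG, MulAut.one_apply] at h1
        have h3 : ((MulAut.conjNormal g x : F) : G) * (x : G)⁻¹ ∈ scalars ρ := by
          have h4 : MulAut.conjNormal g x / x ∈ Z := QuotientGroup.eq_iff_div_mem.1 h1
          rwa [div_eq_mul_inv] at h4
        rwa [MulAut.conjNormal_apply] at h3
      let αF : F →* ℂˣ := MonoidHom.mk' (fun x => coef ρ ⟨_, hg' x⟩) fun x y => by
        rw [← map_mul]
        congr 1
        refine Subtype.ext ?_
        show g * ((x : G) * y) * g⁻¹ * ((x : G) * y)⁻¹ = _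
        rw [show g * ((x : G) * y) * g⁻¹ * ((x : G) * y)⁻¹ = (g * x * g⁻¹) * (g * y * g⁻¹ * (y : G)⁻¹) *
          (x : G)⁻¹ by group, mul_assoc _ _ (x : G)⁻¹, ← scalars_comm ρ hinj (hg' y) ((x : G)⁻¹), ← mul_assoc]
        rfl
      let α : W →* ℂˣ := QuotientGroup.lift Z αF fun z hz => by
        show coef ρ _ = 1
        rw [← map_one (coef ρ)]
        congr 1
        refine Subtype.ext ?_
        show g * z * g⁻¹ * (z : G)⁻¹ = 1
        rw [scalars_comm ρ hinj (Subgroup.mem_subgroupOf.1 hz) g]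
        group
      have hβinj : Function.Injective β := fun a b hab => by
        have : a * b⁻¹ = 1 := hsymp.nondeg _ fun c => by
          rw [map_mul, map_inv, hab, mul_inv_cancel, MonoidHom.one_apply]
        exact mul_inv_eq_one.1 this
      have hcard : Nat.card (W →* ℂˣ) = Nat.card W := CommGroup.card_monoidHom_of_hasEnoughRootsOfUnity W ℂ
      have : Finite (W →* ℂˣ) := Nat.finite_of_card_ne_zero (by rw [hcard]; exact Nat.card_pos.ne')
      obtain ⟨w, hw⟩ := (Nat.bijective_iff_injective_and_card _).2 ⟨hβinj, hcard.symm⟩ |>.2 α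
      obtain ⟨y, rfl⟩ := QuotientGroup.mk'_surjective Z w
      have hfix : (y : G)⁻¹ * g ∈ Subgroup.centralizer (F : Set G) := by
        refine Subgroup.mem_centralizer_iff.2 fun x hx => ?_
        have h1 : cm y ⟨x, hx⟩ = αF ⟨x, hx⟩ := DFunLike.congr_fun hw (QuotientGroup.mk' Z ⟨x, hx⟩)
        have h2 : (y : G) * x * (y : G)⁻¹ * x⁻¹ = g * x * g⁻¹ * x⁻¹ :=
          congrArg Subtype.val (coef_injective ρ hinj h1)
        have h3 : (y : G) * x * (y : G)⁻¹ = g * x * g⁻¹ := mul_right_cancel h2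
        calc x * ((y : G)⁻¹ * g) = (y : G)⁻¹ * ((y : G) * x * (y : G)⁻¹) * g := by group
          _ = (y : G)⁻¹ * g * x := by rw [h3]; group
      have h2 := mul_mem y.2 (CfsgLib.Solvable.centralizer_fittingSubgroup_le hfix)
      simpa using h2
    · refine MonoidHom.mem_ker.2 (MulEquiv.ext fun w => ?_)
      obtain ⟨x, rfl⟩ := QuotientGroup.mk'_surjective Z w
      rw [QuotientGroup.mk'_apply, hfG, MulAut.one_apply]
      refine QuotientGroup.eq_iff_div_mem.2 ?_
      rw [div_eq_mul_inv]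
      show ((MulAut.conjNormal y x : F) : G) * (x : G)⁻¹ ∈ scalars ρ
      rw [MulAut.conjNormal_apply]
      exact commutator_mem_scalars ρ hinj hsc hy x.2
  let f : G ⧸ F →* MulAut W := QuotientGroup.lift F fG hker.ge
  have hfinj : Function.Injective f := by
    rw [← MonoidHom.ker_eq_bot_iff, QuotientGroup.ker_lift, hker, QuotientGroup.map_mk'_self]
  have hpres : ∀ x a b, β (f x a) (f x b) = β a b := by
    intro x a b
    obtain ⟨g, rfl⟩ := QuotientGroup.mk'_surjective F x
    obtain ⟨a, rfl⟩ := QuotientGroup.mk'_surjective Z a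
    obtain ⟨b, rfl⟩ := QuotientGroup.mk'_surjective Z b
    show β (fG g _) (fG g _) = β _ _
    simp only [QuotientGroup.mk'_apply, hfG, hβ]
    show coef ρ _ = coef ρ _
    congr 1
    refine Subtype.ext ?_
    show ((MulAut.conjNormal g a : F) : G) * (MulAut.conjNormal g b : F) * ((MulAut.conjNormal g a : F) : G)⁻¹ *
      ((MulAut.conjNormal g b : F) : G)⁻¹ = (a : G) * b * (a : G)⁻¹ * (b : G)⁻¹
    rw [MulAut.conjNormal_apply, MulAut.conjNormal_apply]
    have hz := commutator_mem_scalars ρ hinj hsc a.2 b.2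
    calc g * a * g⁻¹ * (g * b * g⁻¹) * (g * a * g⁻¹)⁻¹ * (g * b * g⁻¹)⁻¹
        = g * ((a : G) * b * (a : G)⁻¹ * (b : G)⁻¹) * g⁻¹ := by group
      _ = _ := by rw [scalars_comm ρ hinj hz g, mul_inv_cancel_right]
  refine ⟨W, inferInstance, inferInstance, β, m, f, hsymp, hsq, Monoid.pow_exponent_eq_one, hfinj, hpres, ?_⟩
  -- representatives of the cosets are linearly independent
  let : Fintype W := Fintype.ofFinite W
  let rep : W → F := fun w => Quotient.out w
  have hrep : ∀ w : W, (QuotientGroup.mk (rep w) : W) = w := fun w => Quotient.out_eq w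
  have htr : ∀ x : F, x ∉ Z → LinearMap.trace ℂ V (ρ x) = 0 := by
    intro x hx
    obtain ⟨y, hy⟩ : ∃ y : F, cm y x ≠ 1 := by
      by_contra hall
      push_neg at hall
      exact hx (hcen x fun y => by simpa [hall y] using hswap x y)
    have h1 : ρ y * ρ (x : G) * ρ (y : G)⁻¹ = (cm y x : ℂ) • ρ (x : G) := by
      rw [← map_mul, cm_spec, smul_mul_assoc, ← map_mul, mul_inv_cancel_right]
    have h2 := congrArg (LinearMap.trace ℂ V) h1
    rw [LinearMap.trace_mul_cycle, ← map_mul, inv_mul_cancel, map_one, one_mul, map_smul, smul_eq_mul] at h2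
    have h3 : ((cm y x : ℂ) - 1) * LinearMap.trace ℂ V (ρ x) = 0 := by rw [sub_mul, ← h2, one_mul, sub_self]
    exact (mul_eq_zero.1 h3).resolve_left (sub_ne_zero.2 fun h => hy (Units.ext h))
  have hli : LinearIndependent ℂ fun w : W => ρ (rep w : G) := by
    rw [Fintype.linearIndependent_iff]
    intro c hc j
    have h1 := congrArg (fun T => LinearMap.trace ℂ V (T * ρ ((rep j : G)⁻¹))) hc
    simp only [Finset.sum_mul, smul_mul_assoc, map_sum, map_smul, zero_mul, map_zero, smul_eq_mul] at h1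
    rw [Finset.sum_eq_single j] at h1
    · rw [← map_mul, mul_inv_cancel, map_one, LinearMap.trace_one, mul_eq_zero] at h1
      exact h1.resolve_right (Nat.cast_ne_zero.2 Module.finrank_pos.ne')
    · intro w _ hwj
      rw [← map_mul, show (rep w : G) * (rep j : G)⁻¹ = ((rep w * (rep j)⁻¹ : F) : G) from rfl, htr, mul_zero]
      intro hmem
      have h2 : (QuotientGroup.mk (rep w * (rep j)⁻¹) : W) = 1 := (QuotientGroup.eq_one_iff _).2 hmem
      rw [QuotientGroup.mk_mul, QuotientGroup.mk_inv, hrep, hrep, mul_inv_eq_one] at h2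
      exact hwj h2
    · simp
  have := hli.fintype_card_le_finrank
  rwa [← Nat.card_eq_fintype_card, Module.finrank_linearMap, ← sq] at this

omit hsc hinj ρ [Nontrivial V] in
/-- The bound for a soluble complex linear group. -/
theorem quotient_fitting_subBound (hS : SympBound) : ∀ n, Below (n + 1) := by
  intro n
  induction n with
  | zero => intro G _ _ V _ _ _ ρ _ _ _ h1 h2; omega
  | succ n ih =>
    intro G _ _ V _ _ _ ρ _ hsol hinj h1 h2
    have : Group.IsSolvable G := hsol
    by_cases hA : ∀ A : Subgroup G, A.Normal → (∀ a ∈ A, ∀ b ∈ A, a * b = b * a) → A ≤ scalars ρ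
    · have : Nontrivial V := (Module.finrank_pos_iff (R := ℂ)).1 h1
      obtain ⟨W, _, _, β, m, f, hβ, hm, hpow, hf, hpres, hcard⟩ := exists_pairing ρ hinj hA
      intro H
      obtain ⟨e, he, hk⟩ := hS W β hβ m hm hpow H inferInstance
        (f.comp H.subtype) (hf.comp H.subtype_injective) fun x => hpres x
      refine hk.trans (Nat.pow_le_pow_right (by norm_num) (Nat.sub_le_sub_right ?_ 1))
      rw [he] at hcard
      exact (Nat.pow_le_pow_iff_left (by norm_num)).1 hcard
    · push_neg at hA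
      obtain ⟨A, hAn, hAc, hAs⟩ := hA
      obtain ⟨ι, _, _, U, hint, hne, hι, hperm⟩ := exists_decomposition ρ A hAc
        (fun h => hAs fun a ha => h a ha)
      exact bound_of_decomposition ih ρ hinj (by omega) U hint hne hι hperm

end CfsgLib.SolvClasses
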