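import Cfsg.Agent.Lib.SolvClasses.SympBasic

/-!
# The reduction steps for groups of isometries of a pairing of prime exponent

* `card_ptStab_le`: linearly independent images;
* `card_radical_le`: the group fixing a totally isotropic subgroup and the factor over it;
* `step_isotropic`, `step_nondeg`, `step_orbit`: the three steps.
-/

set_option autoImplicit false

noncomputable section

namespace CfsgLib.SolvClasses

open Finset

/-- The induction hypothesis: pairings of exponent `r` on groups smaller than `N`. -/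
def SympBelow (r N : ℕ) : Prop :=
  ∀ (W : Type) [CommGroup W] [Finite W] (β : W →* W →* ℂˣ), IsSymp β → (∀ w : W, w ^ r = 1) → Nat.card W < N →
    ∀ (X : Type) [Group X] [Finite X], Group.IsSolvable X → ∀ f : X →* MulAut W, Function.Injective f →
      Preserves β f → ∀ e : ℕ, Nat.card W = e ^ 2 → k X ≤ 3 ^ (e - 1)

variable {W : Type} [CommGroup W] [Finite W] {β : W →* W →* ℂˣ} {X : Type} [Group X] [Finite X]
  {f : X →* MulAut W} {r : ℕ}

/-- The elements fixing a subgroup pointwise. -/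
def ptStab (f : X →* MulAut W) (T : Subgroup W) : Subgroup X where
  carrier := {x | ∀ w ∈ T, f x w = w}
  one_mem' := fun w _ => by simp
  mul_mem' := fun {a b} ha hb w hw => by rw [map_mul, MulAut.mul_apply, hb w hw, ha w hw]
  inv_mem' := fun {a} ha w hw => by
    rw [map_inv]
    calc (f a)⁻¹ w = (f a)⁻¹ (f a w) := by rw [ha w hw]
      _ = w := MulAut.inv_apply_self _ _ _

omit [Finite W] [Finite X] in
theorem mem_ptStab {T : Subgroup W} {x : X} : x ∈ ptStab f T ↔ ∀ w ∈ T, f x w = w := Iff.rfl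

omit [Finite W] [Finite X] in
theorem card_zpowers_of_ne_one (hr : r.Prime) (hexp : ∀ w : W, w ^ r = 1) {w : W} (hw : w ≠ 1) :
    Nat.card (Subgroup.zpowers w) = r := by
  have := Fact.mk hr
  rw [Nat.card_zpowers, orderOf_eq_prime (hexp w) hw]

theorem card_sup_zpowers (hr : r.Prime) (hexp : ∀ w : W, w ^ r = 1) {T : Subgroup W} {w : W} (hw : w ∉ T) :
    Nat.card (T ⊔ Subgroup.zpowers w : Subgroup W) = r * Nat.card T := by
  have hw1 : w ≠ 1 := fun h => hw (h ▸ one_mem T)
  have hdis : T ⊓ Subgroup.zpowers w = ⊥ := by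
    rw [Subgroup.eq_bot_iff_forall]
    intro x hx
    by_contra hx1
    have : Subgroup.zpowers x = Subgroup.zpowers w := by
      refine Subgroup.eq_of_le_of_card_ge (Subgroup.zpowers_le.2 hx.2) (le_of_eq ?_)
      rw [card_zpowers_of_ne_one hr hexp hx1, card_zpowers_of_ne_one hr hexp hw1]
    exact hw ((Subgroup.zpowers_le.2 hx.1) (this ▸ Subgroup.mem_zpowers w))
  have hinj : Function.Injective fun x : T × Subgroup.zpowers w =>
      (⟨(x.1 : W) * x.2, Subgroup.mul_mem_sup x.1.2 x.2.2⟩ : (T ⊔ Subgroup.zpowers w : Subgroup W)) :=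
    fun a b h => by
      have := congrArg Subtype.val h
      simp only at this
      have h1 : ((b.1 : W)⁻¹ * a.1) = (b.2 : W) * (a.2 : W)⁻¹ := by
        rw [eq_mul_inv_iff_mul_eq, mul_assoc, this, inv_mul_cancel_left]
      have h3 : ((b.1 : W)⁻¹ * a.1) ∈ (⊥ : Subgroup W) := hdis.le
        ⟨Subgroup.mul_mem _ (Subgroup.inv_mem _ b.1.2) a.1.2,
          h1 ▸ Subgroup.mul_mem _ b.2.2 (Subgroup.inv_mem _ a.2.2)⟩
      rw [Subgroup.mem_bot, inv_mul_eq_one] at h3
      rw [← h3] at this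
      exact Prod.ext (Subtype.ext h3.symm) (Subtype.ext (mul_left_cancel this))
  have hsurj : Function.Surjective fun x : T × Subgroup.zpowers w =>
      (⟨(x.1 : W) * x.2, Subgroup.mul_mem_sup x.1.2 x.2.2⟩ : (T ⊔ Subgroup.zpowers w : Subgroup W)) := by
    rintro ⟨y, hy⟩
    obtain ⟨a, ha, b, hb, rfl⟩ := Subgroup.mem_sup.1 hy
    exact ⟨(⟨a, ha⟩, ⟨b, hb⟩), rfl⟩
  rw [← Nat.card_congr (Equiv.ofBijective _ ⟨hinj, hsurj⟩), Nat.card_prod, card_zpowers_of_ne_one hr hexp hw1,
    mul_comm]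

/-- The bound `∏ (r ^ n - r ^ j)`, by codimension. -/
def glAux (r n : ℕ) : ℕ → ℕ
  | 0 => 1
  | m + 1 => (r ^ n - r ^ (n - (m + 1))) * glAux r n m

theorem card_ptStab_le (hr : r.Prime) (hexp : ∀ w : W, w ^ r = 1) (hf : Function.Injective f) {n : ℕ}
    (hn : Nat.card W = r ^ n) : ∀ (m : ℕ) (T : Subgroup W), Nat.card T * r ^ m = r ^ n →
      Nat.card (ptStab f T) ≤ glAux r n m := by
  intro m
  induction m with
  | zero =>
    intro T hT
    have hTtop : T = ⊤ := Subgroup.eq_top_of_card_eq T (by rw [hn, ← hT, pow_zero, mul_one])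
    refine le_of_eq (Subgroup.card_eq_one.2 ?_)
    rw [Subgroup.eq_bot_iff_forall]
    intro x hx
    refine hf ((MulEquiv.ext fun w => ?_).trans (map_one f).symm)
    exact hx w (hTtop ▸ Subgroup.mem_top w)
  | succ m ih =>
    intro T hT
    have hex : ∃ w, w ∉ T := by
      by_contra hall
      push_neg at hall
      have h1 : Nat.card T = r ^ n := by
        rw [← hn, show T = ⊤ from eq_top_iff.2 fun w _ => hall w, Subgroup.card_top]
      rw [h1] at hT
      exact (Nat.one_lt_pow (Nat.succ_ne_zero m) hr.one_lt).ne'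
        ((Nat.mul_eq_left (pow_pos hr.pos n).ne').1 hT)
    obtain ⟨w, hw⟩ := hex
    set T' : Subgroup W := T ⊔ Subgroup.zpowers w
    have hT' : Nat.card T' * r ^ m = r ^ n := by rw [card_sup_zpowers hr hexp hw, ← hT, pow_succ]; ring
    have hTc : Nat.card T = r ^ (n - (m + 1)) := by
      have hle : m + 1 ≤ n := by
        rw [← Nat.pow_le_pow_iff_right hr.one_lt, ← hT]
        exact Nat.le_mul_of_pos_left _ Nat.card_pos
      refine Nat.eq_of_mul_eq_mul_right (pow_pos hr.pos (m + 1)) ?_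
      rw [hT, ← pow_add, Nat.sub_add_cancel hle]
    let g : ptStab f T →* MulAut W := f.comp (ptStab f T).subtype
    have hidx : (stab g w).index ≤ r ^ n - r ^ (n - (m + 1)) := by
      refine (index_stab_le g w (T : Set W)ᶜ fun x h => hw ?_).trans (le_of_eq ?_)
      · have h1 : f (x : X) (f (x : X) w) = f (x : X) w := x.2 _ h
        exact (f (x : X)).injective h1 ▸ h
      · rw [Nat.card_coe_set_eq, Set.ncard_compl, hn, ← hTc, ← Nat.card_coe_set_eq, SetLike.coe_sort_coe]
    rw [← (stab g w).index_mul_card]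
    refine Nat.mul_le_mul hidx (le_trans ?_ (ih T' hT'))
    let i : stab g w →* ptStab f T' :=
      ((ptStab f T).subtype.comp (stab g w).subtype).codRestrict _ fun x y hy => by
        obtain ⟨a, ha, b, ⟨j, rfl⟩, rfl⟩ := Subgroup.mem_sup.1 hy
        have h1 : f ((x : ptStab f T) : X) a = a := (x : ptStab f T).2 a ha
        have h2 : f ((x : ptStab f T) : X) w = w := x.2
        show f ((x : ptStab f T) : X) (a * w ^ j) = a * w ^ j
        rw [map_mul, map_zpow, h1, h2]
    exact Nat.card_le_card_of_injective i fun a b h =>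
      Subtype.ext (Subtype.ext (congrArg (fun z : ptStab f T' => (z : X)) h))

theorem card_le_glAux (hr : r.Prime) (hexp : ∀ w : W, w ^ r = 1) (hf : Function.Injective f) {n : ℕ}
    (hn : Nat.card W = r ^ n) : Nat.card X ≤ glAux r n n := by
  have h := card_ptStab_le hr hexp hf hn n ⊥ (by rw [Subgroup.card_bot, one_mul])
  have hbot : ptStab f ⊥ = ⊤ := eq_top_iff.2 fun x _ w hw => by rw [Subgroup.mem_bot.1 hw, map_one]
  rwa [hbot, Subgroup.card_top] at h

theorem exists_gen (hr : r.Prime) (hexp : ∀ w : W, w ^ r = 1) : ∀ (i : ℕ) (T T' : Subgroup W), T ≤ T' →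
    Nat.card T' = r ^ i * Nat.card T →
      ∃ t : Fin i → W, (∀ j, t j ∈ T') ∧ T' ≤ T ⊔ Subgroup.closure (Set.range t) := by
  intro i
  induction i with
  | zero =>
    intro T T' hle hc
    refine ⟨Fin.elim0, fun j => j.elim0, ?_⟩
    rw [Subgroup.eq_of_le_of_card_ge hle (by rw [hc, pow_zero, one_mul])]
    exact le_sup_left
  | succ i ih =>
    intro T T' hle hc
    have hex : ∃ w ∈ T', w ∉ T := by
      by_contra hall
      push_neg at hall
      have h1 : T' = T := le_antisymm hall hle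
      rw [h1] at hc
      exact (Nat.one_lt_pow (Nat.succ_ne_zero i) hr.one_lt).ne'
        ((Nat.mul_eq_right (Nat.card_pos (α := T)).ne').1 hc.symm)
    obtain ⟨w, hwT', hw⟩ := hex
    obtain ⟨t, ht, hgen⟩ := ih (T ⊔ Subgroup.zpowers w) T' (sup_le hle (Subgroup.zpowers_le.2 hwT'))
      (by rw [hc, card_sup_zpowers hr hexp hw, pow_succ]; ring)
    refine ⟨Fin.cons w t, fun j => Fin.cases hwT' ht j, hgen.trans ?_⟩
    refine sup_le (sup_le le_sup_left ?_) ?_
    · exact le_sup_of_le_right (Subgroup.zpowers_le.2 (Subgroup.subset_closure ⟨0, rfl⟩))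
    · refine le_sup_of_le_right (Subgroup.closure_mono ?_)
      rintro _ ⟨j, rfl⟩
      exact ⟨j.succ, by simp⟩

omit [Finite W] [Finite X] in
theorem eq_on_closure {x y : X} {T : Subgroup W} {S : Set W} (hT : ∀ w ∈ T, f x w = f y w)
    (hS : ∀ s ∈ S, f x s = f y s) : ∀ w ∈ T ⊔ Subgroup.closure S, f x w = f y w := by
  intro w hw
  have hle : T ⊔ Subgroup.closure S ≤ (f x).toMonoidHom.eqLocus (f y).toMonoidHom :=
    sup_le hT ((Subgroup.closure_le _).2 hS)
  exact hle hw

/-- The group fixing a totally isotropic subgroup and the factor over it. -/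
theorem card_radical_le (hr : r.Prime) (hβ : IsSymp β) (hexp : ∀ w : W, w ^ r = 1) (hf : Function.Injective f)
    (hp : Preserves β f) {i a : ℕ} (U : Subgroup W) (hUperp : U ≤ perp β U) (hcU : Nat.card U = r ^ i)
    (hcW : Nat.card W = (r ^ a) ^ 2) (K : Subgroup X) (hKU : ∀ x ∈ K, ∀ u ∈ U, f x u = u)
    (hKW : ∀ x ∈ K, ∀ w ∈ perp β U, f x w * w⁻¹ ∈ U) :
    Nat.card K ≤ (r ^ i) ^ (2 * a - 2 * i) * r ^ (∑ j : Fin i, ((j : ℕ) + 1)) := by
  classical
  have hcP : Nat.card (perp β U) * r ^ i = (r ^ a) ^ 2 := by rw [← hcU, mul_comm, hβ.card_mul_card_perp, hcW]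
  have hai : 2 * i ≤ 2 * a := by
    have h1 : r ^ (2 * i) ≤ r ^ (2 * a) := by
      rw [two_mul, pow_add, mul_comm 2 a, pow_mul, ← hcP]
      exact Nat.mul_le_mul_right _ (hcU ▸ Nat.card_le_card_of_injective _ (Subgroup.inclusion_injective hUperp))
    exact (Nat.pow_le_pow_iff_right hr.one_lt).1 h1
  have hcP' : Nat.card (perp β U) = r ^ (2 * a - 2 * i) * Nat.card U := by
    refine Nat.eq_of_mul_eq_mul_right (pow_pos hr.pos i) ?_
    rw [hcP, hcU, ← pow_mul, mul_assoc, ← pow_add, ← pow_add]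
    congr 1
    omega
  have hcW' : Nat.card (⊤ : Subgroup W) = r ^ i * Nat.card (perp β U) := by
    rw [Subgroup.card_top, hcW, ← hcP, mul_comm]
  obtain ⟨t, ht, htgen⟩ := exists_gen hr hexp (2 * a - 2 * i) U (perp β U) hUperp hcP'
  obtain ⟨s, -, hsgen⟩ := exists_gen hr hexp i (perp β U) ⊤ le_top hcW'
  have := Fact.mk hr
  have := NeZero.mk hr.pos.ne'
  let V : K → (Fin (2 * a - 2 * i) → U) × ((Σ j : Fin i, Fin ((j : ℕ) + 1)) → rootsOfUnity r ℂ) := fun x =>
    (fun j => ⟨f x.1 (t j) * (t j)⁻¹, hKW x.1 x.2 _ (ht j)⟩,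
      fun jl => ⟨β (f x.1 (s jl.1)) (s ⟨jl.2, lt_of_le_of_lt (Nat.lt_succ_iff.1 jl.2.isLt) jl.1.isLt⟩), by
        rw [mem_rootsOfUnity, ← MonoidHom.pow_apply, ← map_pow, hexp, map_one, MonoidHom.one_apply]⟩)
  have hV : Function.Injective V := by
    rintro ⟨x, hx⟩ ⟨y, hy⟩ h
    have hP : ∀ w ∈ perp β U, f x w = f y w := by
      intro w hw
      refine eq_on_closure (fun u hu => by rw [hKU x hx u hu, hKU y hy u hu]) ?_ w (htgen hw)
      rintro _ ⟨j, rfl⟩
      exact mul_right_cancel (congrArg Subtype.val (congrFun (congrArg Prod.fst h) j))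
    have hmove : ∀ z ∈ K, ∀ w, f z w * w⁻¹ ∈ perp β U := by
      intro z hz w u hu
      rw [map_mul, map_inv, MonoidHom.mul_apply, MonoidHom.inv_apply]
      have h1 := hp z w u
      rw [hKU z hz u hu] at h1
      rw [h1, mul_inv_cancel]
    let d : W → W := fun w => f x w * (f y w)⁻¹
    have hd : ∀ w, d w ∈ U := by
      intro w
      rw [← hβ.perp_perp U]
      intro v hv
      obtain ⟨v', rfl⟩ : ∃ v', f y v' = v := ⟨(f y).symm v, (f y).apply_symm_apply v⟩
      have hv' : v' ∈ perp β U := by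
        intro u hu
        have h1 := hv u hu
        rwa [← hKU y hy u hu, hp] at h1
      show β (f x w * (f y w)⁻¹) (f y v') = 1
      rw [map_mul, map_inv, MonoidHom.mul_apply, MonoidHom.inv_apply, hp, ← hP v' hv', hp, mul_inv_cancel]
    have hsym : ∀ w w', β (d w) w' = β (d w') w := by
      intro w w'
      have h1 : β (f x w) (f x w') = β (f y w) (f y w') := by rw [hp, hp]
      rw [show f x w = d w * f y w from (inv_mul_cancel_right _ _).symm,
        show f x w' = d w' * f y w' from (inv_mul_cancel_right _ _).symm] at h1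
      simp only [map_mul, MonoidHom.mul_apply] at h1
      rw [hUperp (hd w) _ (hd w'), one_mul] at h1
      have h2 : ∀ u ∈ U, ∀ z, β u (f y z) = β u z := fun u hu z => by
        rw [← inv_mul_cancel_right (f y z) z, map_mul,
          hβ.eq_one_symm (hmove y hy z u hu), one_mul]
      rw [h2 _ (hd w), ← mul_assoc, mul_eq_right] at h1
      have h3 : β (f y w) (d w') * β (d w') w = 1 := by
        rw [← h2 _ (hd w') w]
        exact hβ.swap _ _
      exact mul_right_cancel (b := β (f y w) (d w')) (by rw [mul_comm (β (d w) w') _, mul_comm (β (d w') w) _, h1, h3])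
    have hle : ∀ j l : Fin i, (l : ℕ) ≤ j → β (d (s j)) (s l) = 1 := by
      intro j l hlj
      have h1 := congrArg Subtype.val (congrFun (congrArg Prod.snd h) ⟨j, ⟨l, Nat.lt_succ_of_le hlj⟩⟩)
      show β (f x (s j) * (f y (s j))⁻¹) (s l) = 1
      rw [map_mul, map_inv, MonoidHom.mul_apply, MonoidHom.inv_apply, show β (f x (s j)) (s l) = β (f y (s j)) (s l)
        from h1, mul_inv_cancel]
    have hdone : ∀ j, d (s j) = 1 := by
      intro j
      refine hβ.nondeg _ fun w => ?_
      have hall : perp β U ⊔ Subgroup.closure (Set.range s) ≤ (β (d (s j))).ker := by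
        refine sup_le (fun v hv => MonoidHom.mem_ker.2 (hβ.eq_one_symm (hv _ (hd _)))) ((Subgroup.closure_le _).2 ?_)
        rintro _ ⟨l, rfl⟩
        rcases le_total (l : ℕ) (j : ℕ) with hlj | hlj
        · exact MonoidHom.mem_ker.2 (hle j l hlj)
        · exact MonoidHom.mem_ker.2 ((hsym _ _).trans (hle l j hlj))
      exact MonoidHom.mem_ker.1 (hall (hsgen (Subgroup.mem_top w)))
    refine Subtype.ext (hf (MulEquiv.ext fun w => eq_on_closure hP ?_ w (hsgen (Subgroup.mem_top w))))
    rintro _ ⟨j, rfl⟩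
    exact mul_inv_eq_one.1 (hdone j)
  refine (Nat.card_le_card_of_injective V hV).trans (le_of_eq ?_)
  rw [Nat.card_prod, Nat.card_fun, Nat.card_fin, hcU, Nat.card_fun,
    Complex.card_rootsOfUnity, Nat.card_sigma]
  simp

/-- The orthogonal subgroup modulo a totally isotropic subgroup. -/
theorem step_isotropic_gen (hr : r.Prime) (hβ : IsSymp β) (hexp : ∀ w : W, w ^ r = 1)
    [Group.IsSolvable X] (hp : Preserves β f) {i a b c c' : ℕ}
    (U : Subgroup W) (hU : Invariant f U) (hUperp : U ≤ perp β U) (hcU : Nat.card U = r ^ i)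
    (hcW : Nat.card W = (r ^ a) ^ 2) (hb : k (resAct f hU).range ≤ b)
    (hc : ∀ K : Subgroup X, (∀ x ∈ K, ∀ u ∈ U, f x u = u) → (∀ x ∈ K, ∀ w ∈ perp β U, f x w * w⁻¹ ∈ U) →
      k K ≤ c)
    (hc' : i ≤ a → ∀ (W' : Type) [CommGroup W'] [Finite W'] (β' : W' →* W' →* ℂˣ), IsSymp β' →
      (∀ w : W', w ^ r = 1) → Nat.card W' = (r ^ (a - i)) ^ 2 → ∀ (X' : Type) [Group X'] [Finite X'],
        Group.IsSolvable X' → ∀ g : X' →* MulAut W', Function.Injective g → Preserves β' g → k X' ≤ c') :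
    i ≤ a ∧ k X ≤ b * (c * c') := by
  set Q : Subgroup W := perp β U with hQ
  set Z : Subgroup Q := U.subgroupOf Q with hZ
  let W' := Q ⧸ Z
  have hcP : Nat.card Q * r ^ i = (r ^ a) ^ 2 := by rw [← hcU, mul_comm, hβ.card_mul_card_perp, hcW]
  have hai : i ≤ a := by
    have h1 : r ^ (2 * i) ≤ r ^ (2 * a) := by
      rw [two_mul, pow_add, mul_comm 2 a, pow_mul, ← hcP]
      exact Nat.mul_le_mul_right _ (hcU ▸ Nat.card_le_card_of_injective _ (Subgroup.inclusion_injective hUperp))
    have := (Nat.pow_le_pow_iff_right hr.one_lt).1 h1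
    omega
  refine ⟨hai, ?_⟩
  have hcW' : Nat.card W' = (r ^ (a - i)) ^ 2 := by
    have hcZ : Nat.card Z = r ^ i := by rw [hZ, Nat.card_congr (Subgroup.subgroupOfEquivOfLe hUperp).toEquiv, hcU]
    have h1 : Nat.card Q = Nat.card W' * r ^ i := by rw [Subgroup.card_eq_card_quotient_mul_card_subgroup Z, hcZ]
    refine Nat.eq_of_mul_eq_mul_right (pow_pos hr.pos (i + i)) ?_
    rw [pow_add, ← mul_assoc, ← h1, hcP, ← pow_mul, ← pow_mul, ← pow_add, ← pow_add]
    congr 1
    omega
  let L : Q → (W' →* ℂˣ) := fun x => QuotientGroup.lift Z (restrictPairing β Q x) fun z hz => x.2 z hz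
  let β' : W' →* W' →* ℂˣ := QuotientGroup.lift Z
    (MonoidHom.mk' L fun x y => MonoidHom.ext fun w => by
      obtain ⟨w, rfl⟩ := QuotientGroup.mk'_surjective Z w
      show restrictPairing β Q (x * y) w = _
      rw [map_mul]
      rfl)
    fun z hz => MonoidHom.ext fun w => by
      obtain ⟨w, rfl⟩ := QuotientGroup.mk'_surjective Z w
      exact hβ.eq_one_symm (w.2 z hz)
  have hβ'mk : ∀ x y : Q, β' (QuotientGroup.mk x) (QuotientGroup.mk y) = β x y := fun _ _ => rfl
  have hβ' : IsSymp β' := by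
    refine ⟨fun x => ?_, fun x hx => ?_⟩
    · obtain ⟨x, rfl⟩ := QuotientGroup.mk'_surjective Z x
      exact hβ.alt x
    · obtain ⟨x, rfl⟩ := QuotientGroup.mk'_surjective Z x
      refine (QuotientGroup.eq_one_iff x).2 ?_
      show (x : W) ∈ U
      rw [← hβ.perp_perp U]
      exact fun w hw => hx (QuotientGroup.mk ⟨w, hw⟩)
  set K : Subgroup X := (resAct f hU).ker
  have hKQ : Invariant f Q := hU.perp hp
  let act : X → (W' →* W') := fun x =>
    QuotientGroup.map Z Z (resAct f hKQ x).toMonoidHom fun z hz => hU x z hz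
  have hact : ∀ x (q : Q), act x (QuotientGroup.mk q) = QuotientGroup.mk (resAct f hKQ x q) := fun _ _ => rfl
  have hact1 : act 1 = MonoidHom.id W' := MonoidHom.ext fun w => by
    obtain ⟨x, rfl⟩ := QuotientGroup.mk'_surjective Z w
    simp only [QuotientGroup.mk'_apply, hact, map_one, MulAut.one_apply, MonoidHom.id_apply]
  have hactmul : ∀ g h, act (g * h) = (act g).comp (act h) := fun g h => MonoidHom.ext fun w => by
    obtain ⟨x, rfl⟩ := QuotientGroup.mk'_surjective Z w
    simp only [QuotientGroup.mk'_apply, hact, map_mul, MulAut.mul_apply, MonoidHom.comp_apply]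
  let f' : X →* MulAut W' :=
    { toFun := fun g => MonoidHom.toMulEquiv (act g) (act g⁻¹)
        (by rw [← hactmul, inv_mul_cancel, hact1]) (by rw [← hactmul, mul_inv_cancel, hact1])
      map_one' := MulEquiv.ext fun w => DFunLike.congr_fun hact1 w
      map_mul' := fun g h => MulEquiv.ext fun w => DFunLike.congr_fun (hactmul g h) w }
  let g : K →* MulAut W' := f'.comp K.subtype
  have hp' : Preserves β' g.range.subtype := by
    rintro ⟨_, x, rfl⟩ u v
    obtain ⟨u, rfl⟩ := QuotientGroup.mk'_surjective Z u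
    obtain ⟨v, rfl⟩ := QuotientGroup.mk'_surjective Z v
    exact hp (x : X) u v
  have hexp' : ∀ w : W', w ^ r = 1 := fun w => by
    obtain ⟨x, rfl⟩ := QuotientGroup.mk'_surjective Z w
    rw [← map_pow, show x ^ r = 1 from Subtype.ext (hexp x), map_one]
  have hk' : k g.range ≤ c' :=
    hc' hai W' β' hβ' hexp' hcW' g.range (Group.isSolvable_of_surjective g.rangeRestrict_surjective) g.range.subtype
      g.range.subtype_injective hp'
  have hker : k (g.ker.map K.subtype) ≤ c := by
    refine hc _ ?_ ?_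
    · rintro _ ⟨x, -, rfl⟩ u hu
      exact mem_ker_resAct.1 x.2 u hu
    · rintro _ ⟨x, hx, rfl⟩ w hw
      have h1 := congrArg (fun e : MulAut W' => e (QuotientGroup.mk ⟨w, hw⟩)) (MonoidHom.mem_ker.1 hx)
      have h2 : resAct f hKQ (x : X) ⟨w, hw⟩ / ⟨w, hw⟩ ∈ Z := QuotientGroup.eq_iff_div_mem.1 h1
      rwa [hZ, Subgroup.mem_subgroupOf, div_eq_mul_inv] at h2
  have hK : k K ≤ c * c' := by
    refine (card_le_mul g.ker).trans (Nat.mul_le_mul (le_of_eq_of_le ?_ hker) ?_)
    · exact k_congr (g.ker.equivMapOfInjective K.subtype K.subtype_injective)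
    · exact (k_congr (QuotientGroup.quotientKerEquivRange g)).trans_le hk'
  refine (card_le_mul K).trans ?_
  rw [mul_comm]
  exact Nat.mul_le_mul ((k_congr (QuotientGroup.quotientKerEquivRange (resAct f hU))).trans_le hb) hK

/-- The isotropic step with the bounds from the induction. -/
theorem step_isotropic {N : ℕ} (ih : SympBelow r N) (hr : r.Prime) (hβ : IsSymp β) (hexp : ∀ w : W, w ^ r = 1)
    [Group.IsSolvable X] (hf : Function.Injective f) (hp : Preserves β f) (hN : Nat.card W ≤ N) {i a b : ℕ}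
    (hi : 0 < i) (U : Subgroup W) (hU : Invariant f U) (hUperp : U ≤ perp β U) (hcU : Nat.card U = r ^ i)
    (hcW : Nat.card W = (r ^ a) ^ 2) (hb : k (resAct f hU).range ≤ b) :
    i ≤ a ∧ k X ≤ b * ((r ^ i) ^ (2 * a - 2 * i) * r ^ (∑ j : Fin i, ((j : ℕ) + 1)) * 3 ^ (r ^ (a - i) - 1)) :=
  step_isotropic_gen hr hβ hexp hp U hU hUperp hcU hcW hb
    (fun K h1 h2 => k_le_card.trans (card_radical_le hr hβ hexp hf hp U hUperp hcU hcW K h1 h2))
    fun hai W' _ _ β' hβ' hexp' hcW' X' _ _ hX' g hg hp' =>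
      ih W' β' hβ' hexp' (lt_of_lt_of_le (by
        rw [hcW', hcW]
        exact Nat.pow_lt_pow_left (Nat.pow_lt_pow_right hr.one_lt (by omega)) two_ne_zero) hN)
        X' hX' g hg hp' _ hcW'

theorem three_pow_mul_le {e₁ e₂ : ℕ} (h1 : 1 ≤ e₁) (h2 : 1 ≤ e₂) :
    3 ^ (e₁ - 1) * 3 ^ (e₂ - 1) ≤ 3 ^ (e₁ * e₂ - 1) := by
  rw [← pow_add]
  refine Nat.pow_le_pow_right (by norm_num) ?_
  obtain ⟨a, rfl⟩ := Nat.exists_eq_add_of_le h1
  obtain ⟨b, rfl⟩ := Nat.exists_eq_add_of_le h2
  have : (1 + a) * (1 + b) = 1 + a + b + a * b := by ring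
  omega

/-- An invariant nondegenerate subgroup. -/
theorem step_nondeg {N : ℕ} (ih : SympBelow r N) (hr : r.Prime) (hβ : IsSymp β) (hexp : ∀ w : W, w ^ r = 1)
    [Group.IsSolvable X] (hf : Function.Injective f) (hp : Preserves β f) (hN : Nat.card W ≤ N) (U : Subgroup W)
    (hU : Invariant f U) (hnd : U ⊓ perp β U = ⊥) (hne : U ≠ ⊥) (hne' : U ≠ ⊤) {e : ℕ}
    (he : Nat.card W = e ^ 2) : k X ≤ 3 ^ (e - 1) := by
  set T := perp β U with hT
  have hTinv : Invariant f T := hU.perp hp
  have hprod := hβ.card_mul_card_perp U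
  obtain ⟨a, ha⟩ := exists_card_eq_pow hr (Nat.card U) U (restrictPairing β U) le_rfl (hβ.restrict hnd)
    fun w => Subtype.ext (hexp w)
  obtain ⟨b, hb⟩ := exists_card_eq_pow hr (Nat.card T) T (restrictPairing β T) le_rfl
    (hβ.restrict (hβ.inf_perp_perp hnd)) fun w => Subtype.ext (hexp w)
  have hU1 : 1 < Nat.card U := (Subgroup.one_lt_card_iff_ne_bot U).2 hne
  have hUlt : Nat.card U < Nat.card W := by
    refine lt_of_le_of_ne U.card_le_card_group fun h => hne' (Subgroup.eq_top_of_card_eq U h)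
  have hTlt : Nat.card T < Nat.card W := by
    rw [← hprod]
    exact lt_mul_of_one_lt_left Nat.card_pos hU1
  set K : Subgroup X := (resAct f hU).ker
  have hKinj : Function.Injective ((resAct f hTinv).comp K.subtype) := by
    intro x y hxy
    refine Subtype.ext (hf (MulEquiv.ext fun w => ?_))
    obtain ⟨u, hu, v, hv, rfl⟩ := hβ.sup_perp hnd w
    have h1 : f (x : X) v = f (y : X) v :=
      congrArg (fun e : MulAut T => ((e ⟨v, hv⟩ : T) : W)) hxy
    rw [map_mul, map_mul, mem_ker_resAct.1 x.2 u hu, mem_ker_resAct.1 y.2 u hu, h1]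
  have hR : Preserves (restrictPairing β U) (resAct f hU).range.subtype := by
    rintro ⟨_, x, rfl⟩ u v
    exact hp x u v
  have h1 : k (resAct f hU).range ≤ 3 ^ (r ^ a - 1) :=
    ih U (restrictPairing β U) (hβ.restrict hnd) (fun w => Subtype.ext (hexp w)) (hUlt.trans_le hN)
      (resAct f hU).range (Group.isSolvable_of_surjective (resAct f hU).rangeRestrict_surjective)
      (resAct f hU).range.subtype (resAct f hU).range.subtype_injective hR _ ha
  have h2 : k K ≤ 3 ^ (r ^ b - 1) :=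
    ih T (restrictPairing β T) (hβ.restrict (hβ.inf_perp_perp hnd)) (fun w => Subtype.ext (hexp w))
      (hTlt.trans_le hN) K inferInstance _ hKinj (fun x u v => hp x u v) _ hb
  have he' : e = r ^ a * r ^ b := by
    refine Nat.pow_left_injective two_ne_zero ?_
    show e ^ 2 = (r ^ a * r ^ b) ^ 2
    rw [← he, mul_pow, ← ha, ← hb, hprod]
  refine (card_le_mul K).trans ?_
  rw [he', mul_comm (k K)]
  exact (Nat.mul_le_mul ((k_congr (QuotientGroup.quotientKerEquivRange (resAct f hU))).trans_le h1) h2).trans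
    (three_pow_mul_le (Nat.one_le_pow _ _ hr.pos) (Nat.one_le_pow _ _ hr.pos))

/-- The stabilizer of a nontrivial element. -/
theorem k_stab_le {N : ℕ} (ih : SympBelow r N) (hr : r.Prime) (hβ : IsSymp β) (hexp : ∀ w : W, w ^ r = 1)
    [Group.IsSolvable X] (hf : Function.Injective f) (hp : Preserves β f) (hN : Nat.card W ≤ N) {a : ℕ} {v : W}
    (hv : v ≠ 1) (hcW : Nat.card W = (r ^ a) ^ 2) :
    1 ≤ a ∧ k (stab f v) ≤ r ^ (2 * a - 1) * 3 ^ (r ^ (a - 1) - 1) := by
  let g : stab f v →* MulAut W := f.comp (stab f v).subtype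
  have hfix : ∀ x : stab f v, ∀ u ∈ Subgroup.zpowers v, g x u = u := by
    rintro x _ ⟨j, rfl⟩
    show f (x : X) (v ^ j) = v ^ j
    rw [map_zpow, show f (x : X) v = v from x.2]
  have hU : Invariant g (Subgroup.zpowers v) := fun x u hu => by rw [hfix x u hu]; exact hu
  have hperp : Subgroup.zpowers v ≤ perp β (Subgroup.zpowers v) := by
    rintro x ⟨i, rfl⟩ y ⟨j, rfl⟩
    simp [map_zpow, hβ.alt v]
  have hrange : k (resAct g hU).range ≤ 1 := by
    refine k_le_card.trans (le_of_eq ?_)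
    rw [Subgroup.card_eq_one, MonoidHom.range_eq_bot_iff]
    exact MonoidHom.ext fun x => MulEquiv.ext fun u => Subtype.ext (hfix x u u.2)
  obtain ⟨h1, h2⟩ := step_isotropic ih hr hβ hexp (f := g) (hf.comp (stab f v).subtype_injective)
    (fun x => hp x) hN (i := 1) (a := a) one_pos _ hU hperp
    (by rw [card_zpowers_of_ne_one hr hexp hv, pow_one]) hcW hrange
  refine ⟨h1, h2.trans (le_of_eq ?_)⟩
  rw [one_mul, pow_one, Fin.sum_univ_one, ← pow_add]
  congr 2
  simp
  omega

theorem step_orbit {N : ℕ} (ih : SympBelow r N) (hr : r.Prime) (hβ : IsSymp β) (hexp : ∀ w : W, w ^ r = 1)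
    [Group.IsSolvable X] (hf : Function.Injective f) (hp : Preserves β f) (hN : Nat.card W ≤ N) {a : ℕ}
    (hcW : Nat.card W = (r ^ a) ^ 2) (ha : 1 ≤ a) :
    k X ≤ ((r ^ a) ^ 2 - 1) * (r ^ (2 * a - 1) * 3 ^ (r ^ (a - 1) - 1)) := by
  have : Nontrivial W := Finite.one_lt_card_iff_nontrivial.1 (by
    rw [hcW]
    exact Nat.one_lt_pow two_ne_zero (Nat.one_lt_pow (by omega) hr.one_lt))
  obtain ⟨v, hv⟩ := exists_ne (1 : W)
  exact (card_le_index_mul (stab f v)).trans
    (Nat.mul_le_mul (hcW ▸ index_stab_le_card_sub_one f hv) (k_stab_le ih hr hβ hexp hf hp hN hv hcW).2)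

end CfsgLib.SolvClasses
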