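import Cfsg.Agent.Lib.SolvClasses.Pairing

/-!
# Pairings: orthogonal subgroups, hyperbolic pairs, restrictions
-/

set_option autoImplicit false

noncomputable section

namespace CfsgLib.SolvClasses

variable {W : Type} [CommGroup W] [Finite W] {β : W →* W →* ℂˣ}

omit [Finite W] in
theorem IsSymp.swap (h : IsSymp β) (a b : W) : β a b * β b a = 1 := by
  have h1 := h.alt (a * b)
  simp only [map_mul, MonoidHom.mul_apply, h.alt a, h.alt b, mul_one, one_mul] at h1
  rw [mul_comm]
  exact h1

omit [Finite W] in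
theorem IsSymp.eq_one_symm (h : IsSymp β) {a b : W} (h1 : β a b = 1) : β b a = 1 := by
  have := h.swap a b
  rwa [h1, one_mul] at this

/-- The orthogonal subgroup. -/
def perp (β : W →* W →* ℂˣ) (U : Subgroup W) : Subgroup W where
  carrier := {w | ∀ u ∈ U, β w u = 1}
  one_mem' := fun u _ => by simp
  mul_mem' := fun {a b} ha hb u hu => by rw [map_mul, MonoidHom.mul_apply, ha u hu, hb u hu, one_mul]
  inv_mem' := fun {a} ha u hu => by rw [map_inv, MonoidHom.inv_apply, ha u hu, inv_one]

omit [Finite W] in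
theorem mem_perp {U : Subgroup W} {w : W} : w ∈ perp β U ↔ ∀ u ∈ U, β w u = 1 := Iff.rfl

omit [Finite W] in
theorem perp_antitone {U T : Subgroup W} (h : U ≤ T) : perp β T ≤ perp β U :=
  fun _ hw u hu => hw u (h hu)

theorem IsSymp.bijective (h : IsSymp β) : Function.Bijective β := by
  have hinj : Function.Injective β := fun a b hab => by
    have : a * b⁻¹ = 1 := h.nondeg _ fun c => by
      rw [map_mul, map_inv, hab, mul_inv_cancel, MonoidHom.one_apply]
    exact mul_inv_eq_one.1 this
  have hcard : Nat.card (W →* ℂˣ) = Nat.card W := CommGroup.card_monoidHom_of_hasEnoughRootsOfUnity W ℂ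
  have : Finite (W →* ℂˣ) := Nat.finite_of_card_ne_zero (by rw [hcard]; exact Nat.card_pos.ne')
  exact (Nat.bijective_iff_injective_and_card _).2 ⟨hinj, hcard.symm⟩

theorem IsSymp.card_mul_card_perp (h : IsSymp β) (U : Subgroup W) :
    Nat.card U * Nat.card (perp β U) = Nat.card W := by
  let r : W →* (U →* ℂˣ) := (MonoidHom.domRestrictHom U ℂˣ).comp β
  have hr : Function.Surjective r := (MonoidHom.domRestrict_surjective ℂ U).comp h.bijective.2
  have hk : r.ker = perp β U := by
    ext w
    exact ⟨fun hw u hu => DFunLike.congr_fun (MonoidHom.mem_ker.1 hw) ⟨u, hu⟩,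
      fun hw => MonoidHom.mem_ker.2 (MonoidHom.ext fun u => hw u u.2)⟩
  have h1 : r.ker.index = Nat.card (U →* ℂˣ) := by
    rw [Subgroup.index_ker, MonoidHom.range_eq_top.2 hr, Subgroup.card_top]
  rw [CommGroup.card_monoidHom_of_hasEnoughRootsOfUnity U ℂ, hk] at h1
  rw [← (perp β U).card_mul_index, h1, mul_comm]

theorem IsSymp.perp_perp (h : IsSymp β) (U : Subgroup W) : perp β (perp β U) = U := by
  have hle : U ≤ perp β (perp β U) := fun u hu w hw => h.eq_one_symm (hw u hu)
  refine (Subgroup.eq_of_le_of_card_ge hle (le_of_eq ?_)).symm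
  have h1 := h.card_mul_card_perp U
  have h2 := h.card_mul_card_perp (perp β U)
  rw [← h1, mul_comm (Nat.card U)] at h2
  exact Nat.eq_of_mul_eq_mul_left Nat.card_pos h2

/-- The pairing restricted to a subgroup. -/
def restrictPairing (β : W →* W →* ℂˣ) (U : Subgroup W) : U →* U →* ℂˣ :=
  (MonoidHom.domRestrictHom U ℂˣ).comp (β.comp U.subtype)

omit [Finite W] in
@[simp] theorem restrictPairing_apply (U : Subgroup W) (a b : U) :
    restrictPairing β U a b = β a b := rfl

omit [Finite W] in
theorem IsSymp.restrict (h : IsSymp β) {U : Subgroup W} (hU : U ⊓ perp β U = ⊥) :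
    IsSymp (restrictPairing β U) := by
  refine ⟨fun a => h.alt a, fun a ha => Subtype.ext ?_⟩
  exact (hU.le ⟨a.2, fun u hu => ha ⟨u, hu⟩⟩ : (a : W) ∈ (⊥ : Subgroup W))

theorem IsSymp.inf_perp_perp (h : IsSymp β) {U : Subgroup W} (hU : U ⊓ perp β U = ⊥) :
    perp β U ⊓ perp β (perp β U) = ⊥ := by
  rw [h.perp_perp, inf_comm, hU]

theorem IsSymp.sup_perp (h : IsSymp β) {U : Subgroup W} (hU : U ⊓ perp β U = ⊥) (w : W) :
    ∃ u ∈ U, ∃ v ∈ perp β U, w = u * v := by
  let f : U × perp β U →* W := (U.subtype).coprod (perp β U).subtype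
  have hf : Function.Injective f := by
    rw [← MonoidHom.ker_eq_bot_iff, Subgroup.eq_bot_iff_forall]
    rintro ⟨u, v⟩ huv
    have h1 : (u : W) * v = 1 := huv
    have h2 : (u : W) ∈ (⊥ : Subgroup W) := hU.le ⟨u.2, by
      rw [eq_inv_of_mul_eq_one_left h1]; exact Subgroup.inv_mem _ v.2⟩
    rw [Subgroup.mem_bot] at h2
    rw [h2, one_mul] at h1
    exact Prod.ext (Subtype.ext h2) (Subtype.ext h1)
  have hb := (Nat.bijective_iff_injective_and_card f).2 ⟨hf, by rw [Nat.card_prod, h.card_mul_card_perp]⟩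
  obtain ⟨⟨u, v⟩, huv⟩ := hb.2 w
  exact ⟨u, u.2, v, v.2, huv.symm⟩

/-- The order of a group with a pairing of prime exponent is an even power of the prime. -/
theorem exists_card_eq_pow {r : ℕ} (hr : r.Prime) : ∀ (N : ℕ) (W : Type) [CommGroup W] [Finite W]
    (β : W →* W →* ℂˣ), Nat.card W ≤ N → IsSymp β → (∀ w : W, w ^ r = 1) → ∃ a, Nat.card W = (r ^ a) ^ 2 := by
  intro N
  induction N with
  | zero =>
    intro W _ _ β h _ _
    exact absurd h (by have := Nat.card_pos (α := W); omega)
  | succ N ih =>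
    intro W _ _ β hN h hexp
    rcases subsingleton_or_nontrivial W with hs | hn
    · exact ⟨0, by simp [Nat.card_eq_one_iff_unique.2 ⟨hs, ⟨1⟩⟩]⟩
    obtain ⟨u, hu⟩ := exists_ne (1 : W)
    have := Fact.mk hr
    set L : Subgroup W := Subgroup.zpowers u
    have hL : Nat.card L = r := by rw [Nat.card_zpowers, orderOf_eq_prime (hexp u) hu]
    have hLp : L ≤ perp β L := by
      rintro x ⟨i, rfl⟩ y ⟨j, rfl⟩
      simp [map_zpow, h.alt u]
    set P := perp β L
    have hP : Nat.card P * r = Nat.card W := by rw [← hL, mul_comm, h.card_mul_card_perp]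
    have hex : ∃ v, v ∉ P := by
      by_contra hall
      push_neg at hall
      exact hu (h.nondeg u fun b => h.eq_one_symm (hall b u (Subgroup.mem_zpowers u)))
    obtain ⟨v, hv⟩ := hex
    set H : Subgroup W := L ⊔ Subgroup.zpowers v
    have hLv : L ⊓ Subgroup.zpowers v = ⊥ := by
      rw [Subgroup.eq_bot_iff_forall]
      intro x hx
      by_contra hx1
      obtain ⟨j, hj⟩ := hx.2
      have : Subgroup.zpowers x = Subgroup.zpowers v := by
        refine Subgroup.eq_of_le_of_card_ge (Subgroup.zpowers_le.2 hx.2) ?_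
        rw [Nat.card_zpowers, Nat.card_zpowers, orderOf_eq_prime (hexp x) hx1]
        exact Nat.le_of_dvd hr.pos (orderOf_dvd_of_pow_eq_one (hexp v))
      exact hv (hLp ((Subgroup.zpowers_le.2 hx.1) (this ▸ Subgroup.mem_zpowers v)))
    have hH : H ⊓ perp β H = ⊥ := by
      rw [Subgroup.eq_bot_iff_forall]
      intro x hx
      obtain ⟨a, ⟨i, rfl⟩, b, ⟨j, rfl⟩, rfl⟩ := Subgroup.mem_sup.1 hx.1
      have h1 := hx.2 u (Subgroup.mem_sup_left (Subgroup.mem_zpowers u))
      have h2 := hx.2 v (Subgroup.mem_sup_right (Subgroup.mem_zpowers v))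
      simp only [map_mul, map_zpow, MonoidHom.mul_apply, MonoidHom.zpow_apply, h.alt, one_zpow, one_mul,
        mul_one] at h1 h2
      have hne : β v u ≠ 1 := fun hvu => hv fun y hy => by
        obtain ⟨l, rfl⟩ := hy
        simp [map_zpow, hvu]
      have hne2 : β u v ≠ 1 := fun huv => hne (h.eq_one_symm huv)
      have hord : ∀ y z : W, β y z ≠ 1 → orderOf (β y z) = r := fun y z hyz => by
        refine orderOf_eq_prime ?_ hyz
        rw [← map_pow, hexp, map_one]
      have hj : (r : ℤ) ∣ j := by rw [← hord v u hne]; exact orderOf_dvd_iff_zpow_eq_one.2 h1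
      have hi : (r : ℤ) ∣ i := by rw [← hord u v hne2]; exact orderOf_dvd_iff_zpow_eq_one.2 h2
      obtain ⟨i', rfl⟩ := hi
      obtain ⟨j', rfl⟩ := hj
      simp [zpow_mul, hexp]
    have hcardH : Nat.card H = r ^ 2 := by
      have hinj : Function.Injective fun x : L × Subgroup.zpowers v =>
          (⟨(x.1 : W) * x.2, Subgroup.mul_mem_sup x.1.2 x.2.2⟩ : H) := by
        rintro ⟨a, b⟩ ⟨c, d⟩ hac
        have h1 : (a : W) * b = c * d := congrArg Subtype.val hac
        have h2 : (c : W)⁻¹ * a = d * (b : W)⁻¹ := by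
          rw [eq_mul_inv_iff_mul_eq, mul_assoc, h1, inv_mul_cancel_left]
        have h3 : (c : W)⁻¹ * a ∈ (⊥ : Subgroup W) :=
          hLv.le ⟨Subgroup.mul_mem _ (Subgroup.inv_mem _ c.2) a.2, h2 ▸ Subgroup.mul_mem _ d.2 (Subgroup.inv_mem _ b.2)⟩
        rw [Subgroup.mem_bot] at h3
        have h4 : (a : W) = c := (inv_mul_eq_one.1 h3).symm
        rw [h4] at h1
        exact Prod.ext (Subtype.ext h4) (Subtype.ext (mul_left_cancel h1))
      have hsurj : Function.Surjective fun x : L × Subgroup.zpowers v =>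
          (⟨(x.1 : W) * x.2, Subgroup.mul_mem_sup x.1.2 x.2.2⟩ : H) := by
        rintro ⟨y, hy⟩
        obtain ⟨a, ha, b, hb, rfl⟩ := Subgroup.mem_sup.1 hy
        exact ⟨(⟨a, ha⟩, ⟨b, hb⟩), rfl⟩
      rw [← Nat.card_congr (Equiv.ofBijective _ ⟨hinj, hsurj⟩), Nat.card_prod, hL, Nat.card_zpowers,
        orderOf_eq_prime (hexp v) fun h1 => hv (h1 ▸ one_mem P), sq]
    have hcard := h.card_mul_card_perp H
    rw [hcardH] at hcard
    have hlt : Nat.card (perp β H) ≤ N := by
      have h2 : 2 * Nat.card (perp β H) ≤ Nat.card W := by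
        rw [← hcard]
        exact Nat.mul_le_mul_right _ ((Nat.le_self_pow two_ne_zero r).trans' hr.two_le)
      have := Nat.card_pos (α := perp β H)
      omega
    obtain ⟨a, ha⟩ := ih (perp β H) (restrictPairing β (perp β H)) hlt (h.restrict (h.inf_perp_perp hH))
      fun w => Subtype.ext (hexp w)
    exact ⟨a + 1, by rw [← hcard, ha]; ring⟩

variable {X : Type} [Group X]

/-- An action preserving the pairing. -/
def Preserves (β : W →* W →* ℂˣ) (f : X →* MulAut W) : Prop := ∀ x a b, β (f x a) (f x b) = β a b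

/-- An invariant subgroup. -/
def Invariant (f : X →* MulAut W) (U : Subgroup W) : Prop := ∀ x, ∀ u ∈ U, f x u ∈ U

omit [Finite W] in
theorem Invariant.perp {f : X →* MulAut W} (hp : Preserves β f) {U : Subgroup W} (hU : Invariant f U) :
    Invariant f (perp β U) := by
  intro x w hw u hu
  have h1 := hw (f x⁻¹ u) (hU x⁻¹ u hu)
  rw [← hp x] at h1
  rwa [map_inv, MulAut.apply_inv_self] at h1

/-- The action on an invariant subgroup. -/
def resAct (f : X →* MulAut W) {U : Subgroup W} (hU : Invariant f U) : X →* MulAut U where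
  toFun x :=
    { toFun := fun u => ⟨f x u, hU x u u.2⟩
      invFun := fun u => ⟨f x⁻¹ u, hU x⁻¹ u u.2⟩
      left_inv := fun u => Subtype.ext (by simp)
      right_inv := fun u => Subtype.ext (by simp)
      map_mul' := fun u v => Subtype.ext (by simp) }
  map_one' := MulEquiv.ext fun u => Subtype.ext (by simp)
  map_mul' x y := MulEquiv.ext fun u => Subtype.ext (by simp)

omit [Finite W] in
@[simp] theorem resAct_apply (f : X →* MulAut W) {U : Subgroup W} (hU : Invariant f U) (x : X) (u : U) :
    ((resAct f hU x u : U) : W) = f x u := rfl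

omit [Finite W] in
theorem mem_ker_resAct {f : X →* MulAut W} {U : Subgroup W} {hU : Invariant f U} {x : X} :
    x ∈ (resAct f hU).ker ↔ ∀ u ∈ U, f x u = u := by
  refine ⟨fun h u hu => ?_, fun h => MonoidHom.mem_ker.2 (MulEquiv.ext fun u => Subtype.ext (h u u.2))⟩
  exact congrArg (fun e : MulAut U => ((e ⟨u, hu⟩ : U) : W)) (MonoidHom.mem_ker.1 h)

/-- The stabilizer of an element. -/
def stab (f : X →* MulAut W) (v : W) : Subgroup X where
  carrier := {x | f x v = v}
  one_mem' := by simp
  mul_mem' := fun {a b} ha hb => by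
    show f (a * b) v = v
    rw [map_mul, MulAut.mul_apply, show f b v = v from hb, show f a v = v from ha]
  inv_mem' := fun {a} ha => by
    show f a⁻¹ v = v
    rw [map_inv]
    calc (f a)⁻¹ v = (f a)⁻¹ (f a v) := by rw [show f a v = v from ha]
      _ = v := by simp

omit [Finite W] in
theorem mem_stab {f : X →* MulAut W} {v : W} {x : X} : x ∈ stab f v ↔ f x v = v := Iff.rfl

theorem index_stab_le (f : X →* MulAut W) (v : W) (S : Set W) (hS : ∀ x, f x v ∈ S) :
    (stab f v).index ≤ Nat.card S := by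
  refine Nat.card_le_card_of_injective (fun c : X ⧸ stab f v => Quotient.liftOn' c (fun x => (⟨f x v, hS x⟩ : S))
    fun a b hab => ?_) ?_
  · rw [QuotientGroup.leftRel_apply, mem_stab, map_mul, MulAut.mul_apply, map_inv] at hab
    have h1 := congrArg (f a) hab
    rw [MulAut.apply_inv_self] at h1
    exact Subtype.ext h1.symm
  · intro c d
    induction c using Quotient.inductionOn'
    induction d using Quotient.inductionOn'
    rename_i a b
    intro hab
    refine Quotient.sound' (QuotientGroup.leftRel_apply.2 (mem_stab.2 ?_))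
    have h1 : f a v = f b v := congrArg Subtype.val hab
    rw [map_mul, MulAut.mul_apply, ← h1, map_inv, MulAut.inv_apply_self]

/-- The orbit is inside the nonidentity elements. -/
theorem index_stab_le_card_sub_one (f : X →* MulAut W) {v : W} (hv : v ≠ 1) :
    (stab f v).index ≤ Nat.card W - 1 := by
  classical
  refine (index_stab_le f v {w | w ≠ 1} fun x h => hv ((f x).map_eq_one_iff.1 h)).trans (le_of_eq ?_)
  let : Fintype W := Fintype.ofFinite W
  rw [Nat.card_eq_fintype_card (α := W), Nat.card_coe_set_eq, ← Finset.card_univ,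
    ← Finset.card_erase_of_mem (Finset.mem_univ (1 : W)), ← Set.ncard_coe_finset]
  exact congrArg Set.ncard (by ext; simp)

end CfsgLib.SolvClasses
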