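import Cfsg.Agent.Lib.SolvClasses.Coprime

/-!
# Irreducible isometry groups in characteristic two of small rank

* `card_le_eighteen`: centralisers of fixed point free elements of order three in rank two;
* `k_irred_two`: the class bound.
-/

set_option autoImplicit false

noncomputable section

namespace CfsgLib.SolvClasses

open Finset

variable {W : Type} [CommGroup W] [Finite W] {β : W →* W →* ℂˣ} {X : Type} [Group X] [Finite X]
  {f : X →* MulAut W} {r : ℕ}

omit [Finite X] in
theorem plane_le_closure (hexp : ∀ w : W, w ^ 2 = 1) {P : Subgroup W} (hP : Nat.card P = 4) {m : X}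
    (hfix : fixW f m = ⊥) (hinv : ∀ u ∈ P, f m u ∈ P) {a : W} (ha : a ∈ P) (ha1 : a ≠ 1) :
    P ≤ Subgroup.zpowers a ⊔ Subgroup.zpowers (f m a) := by
  have hne : f m a ∉ Subgroup.zpowers a := by
    intro h
    obtain ⟨i, hi⟩ := h
    have hi' : a ^ i = f m a := hi
    rcases Int.even_or_odd i with ⟨j, rfl⟩ | ⟨j, rfl⟩
    · rw [← two_mul, zpow_mul, zpow_ofNat, hexp, one_zpow] at hi'
      exact ha1 ((f m).map_eq_one_iff.1 hi'.symm)
    · rw [zpow_add, zpow_mul, zpow_ofNat, hexp, one_zpow, one_mul, zpow_one] at hi'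
      have : a ∈ fixW f m := hi'.symm
      rw [hfix, Subgroup.mem_bot] at this
      exact ha1 this
  have hle : Subgroup.zpowers a ⊔ Subgroup.zpowers (f m a) ≤ P :=
    sup_le (Subgroup.zpowers_le.2 ha) (Subgroup.zpowers_le.2 (hinv a ha))
  refine (Subgroup.eq_of_le_of_card_ge hle (le_of_eq ?_)).ge
  rw [hP, card_sup_zpowers Nat.prime_two hexp hne, card_zpowers_of_ne_one Nat.prime_two hexp ha1]

omit [Finite X] in
theorem beta_ne_one_of_plane (hexp : ∀ w : W, w ^ 2 = 1) (hβ : IsSymp β) {P : Subgroup W} (hP : Nat.card P = 4)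
    (hnd : P ⊓ perp β P = ⊥) {m : X} (hfix : fixW f m = ⊥) (hinv : ∀ u ∈ P, f m u ∈ P) {a : W} (ha : a ∈ P)
    (ha1 : a ≠ 1) : β a (f m a) ≠ 1 := by
  intro h
  have hle : P ≤ (β a).ker := (plane_le_closure hexp hP hfix hinv ha ha1).trans
    (sup_le (Subgroup.zpowers_le.2 (MonoidHom.mem_ker.2 (hβ.alt a))) (Subgroup.zpowers_le.2 (MonoidHom.mem_ker.2 h)))
  have : a ∈ (⊥ : Subgroup W) := hnd.le ⟨ha, fun u hu => MonoidHom.mem_ker.1 (hle hu)⟩
  exact ha1 (Subgroup.mem_bot.1 this)

theorem radical_eq_bot {q a j d : ℕ} (hq : q.Prime) (hq2 : q ≠ 2) (ha : a ∈ [2, 3, 4])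
    (hdvd : q ∣ 4 ^ a - 1) (hjd : j < d) (hd : d ≤ q - 1) (hsum : j + d ≤ 2 * a)
    (hj : 2 ^ j % q = 1) (hdm : 2 ^ d % q = 1) : j = 0 := by
  have hd2 : d ≤ 8 := by
    simp only [List.mem_cons, List.not_mem_nil, or_false] at ha
    rcases ha with rfl | rfl | rfl <;> omega
  have hq' : q ∈ [3, 5, 7, 17] := by
    simp only [List.mem_cons, List.not_mem_nil, or_false] at ha ⊢
    rcases ha with rfl | rfl | rfl <;> norm_num at hdvd
    · have := Nat.le_of_dvd (by norm_num) hdvd
      interval_cases q <;> first | omega | exact absurd hq (by norm_num)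
    · have := Nat.le_of_dvd (by norm_num) hdvd
      interval_cases q <;> first | omega | exact absurd hq (by norm_num)
    · have := Nat.le_of_dvd (by norm_num) hdvd
      interval_cases q <;> first | omega | exact absurd hq (by norm_num)
  simp only [List.mem_cons, List.not_mem_nil, or_false] at ha hq'
  rcases ha with rfl | rfl | rfl <;> rcases hq' with rfl | rfl | rfl | rfl <;> norm_num at hdvd
  all_goals interval_cases d
  all_goals (try interval_cases j)
  all_goals simp_all

/-- Centralizers of fixed point free elements of order three. -/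
theorem card_le_eighteen (hβ : IsSymp β) (hexp : ∀ w : W, w ^ 2 = 1) (hW : Nat.card W = 16) (hp : Preserves β f)
    {m : X} (hm : m ^ 3 = 1) (hfix : fixW f m = ⊥) (C : Subgroup X)
    (hinj : Function.Injective (f.comp C.subtype)) (hcomm : ∀ c ∈ C, c * m = m * c) : Nat.card C ≤ 18 := by
  classical
  have : Nontrivial W := Finite.one_lt_card_iff_nontrivial.1 (by omega)
  obtain ⟨v, U, hv, hvU, hβv, hUm, hUc, -⟩ :=
    exists_frame Nat.prime_two Nat.prime_three (by norm_num) rfl hβ hexp hp hm hfix
  norm_num at hUc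
  have hU4 : Nat.card U = 4 := by
    have hne : f m v ∉ Subgroup.zpowers v := by
      rintro ⟨i, hi⟩
      apply hβv
      rw [← show v ^ i = f m v from hi, map_zpow, hβ.alt, one_zpow]
    have h := Nat.card_le_card_of_injective _ (Subgroup.inclusion_injective
      (sup_le (Subgroup.zpowers_le.2 hvU) (Subgroup.zpowers_le.2 (hUm v hvU)) :
        Subgroup.zpowers v ⊔ Subgroup.zpowers (f m v) ≤ U))
    rw [card_sup_zpowers Nat.prime_two hexp hne, card_zpowers_of_ne_one Nat.prime_two hexp hv] at h
    omega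
  have hnd : U ⊓ perp β U = ⊥ := by
    rw [Subgroup.eq_bot_iff_forall]
    intro a ha
    by_contra ha1
    have hle := plane_le_closure hexp hU4 hfix hUm ha.1 ha1
    have haP : ∀ b ∈ U, β a b = 1 := ha.2
    have hma : ∀ b ∈ U, β (f m a) b = 1 := by
      intro b hb
      obtain ⟨b', hb'U, rfl⟩ : ∃ b' ∈ U, f m b' = b := by
        let t : U → U := fun z => ⟨f m z, hUm z z.2⟩
        have ht : Function.Injective t := fun y z h => Subtype.ext ((f m).injective (congrArg Subtype.val h))
        obtain ⟨z, hz⟩ := (Finite.injective_iff_surjective.1 ht) ⟨b, hb⟩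
        exact ⟨z, z.2, congrArg Subtype.val hz⟩
      rw [hp]
      exact haP b' hb'U
    have hall : U ≤ perp β U := hle.trans (sup_le (Subgroup.zpowers_le.2 haP) (Subgroup.zpowers_le.2 hma))
    exact hβv (hall hvU _ (hUm v hvU))
  set T := perp β U with hT
  have hT4 : Nat.card T = 4 := by
    have := hβ.card_mul_card_perp U
    rw [hU4, hW] at this
    rw [hT]
    omega
  have hTm : ∀ w ∈ T, f m w ∈ T := by
    intro w hw b hb
    let t : U → U := fun z => ⟨f m z, hUm z z.2⟩
    have ht : Function.Injective t := fun y z h => Subtype.ext ((f m).injective (congrArg Subtype.val h))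
    obtain ⟨z, hz⟩ := (Finite.injective_iff_surjective.1 ht) ⟨b, hb⟩
    rw [← show f m z = b from congrArg Subtype.val hz, hp]
    exact hw z z.2
  have hTnd : T ⊓ perp β T = ⊥ := hβ.inf_perp_perp hnd
  obtain ⟨v', hv'T, hv'⟩ : ∃ v' ∈ T, v' ≠ 1 := by
    by_contra hh
    push_neg at hh
    have : T = ⊥ := (Subgroup.eq_bot_iff_forall T).2 hh
    rw [this, Subgroup.card_bot] at hT4
    omega
  have hhalf : ∀ a : W, β a (f m a) ≠ 1 → a ∈ U ∨ a ∈ T := by
    intro z hz
    obtain ⟨a, ha, b, hb, rfl⟩ := hβ.sup_perp hnd z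
    by_cases ha1 : a = 1
    · right; rw [ha1, one_mul]; exact hb
    by_cases hb1 : b = 1
    · left; rw [hb1, mul_one]; exact ha
    exfalso
    apply hz
    have h1 := beta_ne_one_of_plane hexp hβ hU4 hnd hfix hUm ha ha1
    have h2 := beta_ne_one_of_plane hexp hβ hT4 hTnd hfix hTm hb hb1
    have hsq : ∀ x y : W, β x y = 1 ∨ β x y = -1 := by
      intro x y
      have h3 : ((β x y : ℂˣ) : ℂ) ^ 2 = 1 := by
        rw [← Units.val_pow_eq_pow_val, ← map_pow, hexp, map_one, Units.val_one]
      rcases sq_eq_one_iff.1 h3 with h4 | h4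
      · exact Or.inl (Units.ext h4)
      · exact Or.inr (Units.ext h4)
    simp only [map_mul, MonoidHom.mul_apply]
    rw [show β b (f m a) = 1 from hb _ (hUm a ha),
      show β a (f m b) = 1 from hβ.eq_one_symm (hTm b hb _ ha),
      (hsq a (f m a)).resolve_left h1, (hsq b (f m b)).resolve_left h2]
    simp
  let F : C → W × W := fun c => (f (c : X) v, f (c : X) v')
  have hcm : ∀ (c : C) (w : W), f (c : X) (f m w) = f m (f (c : X) w) := fun c w => by
    rw [← MulAut.mul_apply, ← map_mul, hcomm c c.2, map_mul, MulAut.mul_apply]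
  have hF : Function.Injective F := by
    intro c d hcd
    have h1 : f (c : X) v = f (d : X) v := (Prod.ext_iff.1 hcd).1
    have h2 : f (c : X) v' = f (d : X) v' := (Prod.ext_iff.1 hcd).2
    refine hinj (MulEquiv.ext fun w => ?_)
    have hle : ∀ (P : Subgroup W) (z : W), Nat.card P = 4 → (∀ u ∈ P, f m u ∈ P) → z ∈ P → z ≠ 1 →
        f (c : X) z = f (d : X) z → ∀ u ∈ P, f (c : X) u = f (d : X) u := by
      intro P z hP hPm hzP hz1 hz u hu
      have hl : P ≤ (f (c : X)).toMonoidHom.eqLocus (f (d : X)).toMonoidHom :=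
        (plane_le_closure hexp hP hfix hPm hzP hz1).trans (sup_le (Subgroup.zpowers_le.2 hz)
          (Subgroup.zpowers_le.2 (show f (c : X) (f m z) = f (d : X) (f m z) by rw [hcm, hcm, hz])))
      exact hl hu
    obtain ⟨a, ha, b, hb, rfl⟩ := hβ.sup_perp hnd w
    show f (c : X) (a * b) = f (d : X) (a * b)
    rw [map_mul, map_mul, hle U v hU4 hUm hvU hv h1 a ha, hle T v' hT4 hTm hv'T hv' h2 b hb]
  let S : Set (W × W) := ({a | a ∈ U ∧ a ≠ 1} ×ˢ {a | a ∈ T ∧ a ≠ 1}) ∪ ({a | a ∈ T ∧ a ≠ 1} ×ˢ {a | a ∈ U ∧ a ≠ 1})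
  have hmem : ∀ c, F c ∈ S := by
    intro c
    have h1 : β (f (c : X) v) (f m (f (c : X) v)) ≠ 1 := by rw [← hcm, hp]; exact hβv
    have h2 : f (c : X) v ≠ 1 := fun h => hv ((f (c : X)).map_eq_one_iff.1 h)
    have h3 : f (c : X) v' ≠ 1 := fun h => hv' ((f (c : X)).map_eq_one_iff.1 h)
    have hz : ∀ P : Subgroup W, Nat.card P = 4 → (∀ u ∈ P, f m u ∈ P) → f (c : X) v ∈ P →
        f (c : X) v' ∈ perp β P := by
      intro P hP hPm hcv u hu
      have hl : P ≤ (β (f (c : X) v')).ker := by
        refine (plane_le_closure hexp hP hfix hPm hcv h2).trans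
          (sup_le (Subgroup.zpowers_le.2 ?_) (Subgroup.zpowers_le.2 ?_))
        · exact MonoidHom.mem_ker.2 ((hp _ _ _).trans (hv'T v hvU))
        · rw [MonoidHom.mem_ker, ← hcm, hp]
          exact hv'T _ (hUm v hvU)
      exact MonoidHom.mem_ker.1 (hl hu)
    rcases hhalf _ h1 with hU' | hT'
    · exact Or.inl ⟨⟨hU', h2⟩, ⟨hz U hU4 hUm hU', h3⟩⟩
    · refine Or.inr ⟨⟨hT', h2⟩, ⟨?_, h3⟩⟩
      rw [← hβ.perp_perp U]
      exact hz T hT4 hTm hT'
  have hcS : ∀ P : Subgroup W, Nat.card P = 4 → {a : W | a ∈ P ∧ a ≠ 1}.ncard = 3 := by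
    intro P hP
    have : {a : W | a ∈ P ∧ a ≠ 1} = (P : Set W) \ {1} := by ext; simp
    rw [this, Set.ncard_diff_singleton_of_mem (one_mem P), ← Nat.card_coe_set_eq, SetLike.coe_sort_coe, hP]
  refine (Nat.card_le_card_of_injective (fun c => (⟨F c, hmem c⟩ : S)) fun a b h => hF (congrArg Subtype.val h)).trans ?_
  rw [Nat.card_coe_set_eq]
  refine (Set.ncard_union_le _ _).trans ?_
  rw [Set.ncard_prod, Set.ncard_prod, hcS U hU4, hcS T hT4]

theorem k_le_of_nondeg {N : ℕ} (ih : SympBelow r N) (hr : r.Prime) (hβ : IsSymp β) (hexp : ∀ w : W, w ^ r = 1)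
    [Group.IsSolvable X] (hf : Function.Injective f) (hp : Preserves β f) (hN : Nat.card W ≤ N) (U : Subgroup W)
    (hU : Invariant f U) (hnd : U ⊓ perp β U = ⊥) (hne : U ≠ ⊥) (hne' : U ≠ ⊤) {a : ℕ}
    (hW : Nat.card W = (r ^ a) ^ 2) :
    ∃ α γ, α + γ = a ∧ 1 ≤ α ∧ 1 ≤ γ ∧ Nat.card U = (r ^ α) ^ 2 ∧
      k X ≤ 3 ^ (r ^ α - 1) * 3 ^ (r ^ γ - 1) := by
  set T := perp β U with hT
  have hprod := hβ.card_mul_card_perp U
  obtain ⟨α, hα⟩ := exists_card_eq_pow hr (Nat.card U) U (restrictPairing β U) le_rfl (hβ.restrict hnd)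
    fun w => Subtype.ext (hexp w)
  obtain ⟨γ, hγ⟩ := exists_card_eq_pow hr (Nat.card T) T (restrictPairing β T) le_rfl
    (hβ.restrict (hβ.inf_perp_perp hnd)) fun w => Subtype.ext (hexp w)
  have hU1 : 1 < Nat.card U := (Subgroup.one_lt_card_iff_ne_bot U).2 hne
  have hUlt : Nat.card U < Nat.card W :=
    lt_of_le_of_ne U.card_le_card_group fun h => hne' (Subgroup.eq_top_of_card_eq U h)
  have hTlt : Nat.card T < Nat.card W := by
    rw [← hprod]
    exact lt_mul_of_one_lt_left Nat.card_pos hU1
  have hsum : α + γ = a := by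
    have h : r ^ (2 * (α + γ)) = r ^ (2 * a) := by
      rw [mul_comm 2 a, pow_mul r a, ← hW, ← hprod, hα, hγ, ← pow_mul, ← pow_mul, ← pow_add]
      congr 1
      ring
    have := Nat.pow_right_injective hr.two_le h
    omega
  have hα1 : 1 ≤ α := by
    by_contra h
    rw [show α = 0 by omega] at hα
    simp only [pow_zero, one_pow] at hα
    omega
  have hγ1 : 1 ≤ γ := by
    by_contra h
    rw [show γ = 0 by omega] at hγ
    simp only [pow_zero, one_pow] at hγ
    rw [show Nat.card T = 1 from hγ, mul_one] at hprod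
    omega
  set K : Subgroup X := (resAct f hU).ker
  have hKinj : Function.Injective ((resAct f (hU.perp hp)).comp K.subtype) := by
    intro x y hxy
    refine Subtype.ext (hf (MulEquiv.ext fun w => ?_))
    obtain ⟨u, hu, v, hv, rfl⟩ := hβ.sup_perp hnd w
    have h1 : f (x : X) v = f (y : X) v :=
      congrArg (fun e : MulAut T => ((e ⟨v, hv⟩ : T) : W)) hxy
    rw [map_mul, map_mul, mem_ker_resAct.1 x.2 u hu, mem_ker_resAct.1 y.2 u hu, h1]
  have hR : Preserves (restrictPairing β U) (resAct f hU).range.subtype := by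
    rintro ⟨_, x, rfl⟩ u v
    exact hp x u v
  have h1 : k (resAct f hU).range ≤ 3 ^ (r ^ α - 1) :=
    ih U (restrictPairing β U) (hβ.restrict hnd) (fun w => Subtype.ext (hexp w)) (hUlt.trans_le hN)
      (resAct f hU).range (Group.isSolvable_of_surjective (resAct f hU).rangeRestrict_surjective)
      (resAct f hU).range.subtype (resAct f hU).range.subtype_injective hR _ hα
  have h2 : k K ≤ 3 ^ (r ^ γ - 1) :=
    ih T (restrictPairing β T) (hβ.restrict (hβ.inf_perp_perp hnd)) (fun w => Subtype.ext (hexp w))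
      (hTlt.trans_le hN) K inferInstance _ hKinj (fun x u v => hp x u v) _ hγ
  refine ⟨α, γ, hsum, hα1, hγ1, hα, (card_le_mul K).trans ?_⟩
  rw [mul_comm]
  exact Nat.mul_le_mul ((k_congr (QuotientGroup.quotientKerEquivRange (resAct f hU))).trans_le h1) h2

theorem eq_pow_of_all_fpf {q : ℕ} (hq : q.Prime) (hq2 : q ≠ 2) (hexp : ∀ w : W, w ^ 2 = 1) [Nontrivial W]
    (M : Subgroup X) (hpow : ∀ x ∈ M, x ^ q = 1) (hcomm : ∀ x ∈ M, ∀ y ∈ M, x * y = y * x)
    (hall : ∀ x ∈ M, x ≠ 1 → fixW f x = ⊥) {m : X} (hm : m ∈ M) (hm1 : m ≠ 1) : Nat.card M ≤ q := by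
  have hle : M ≤ Subgroup.zpowers m := by
    intro x hx
    by_cases hx1 : x = 1
    · rw [hx1]; exact one_mem _
    by_contra hnot
    refine eq_pow_of_fpf (f := f) Nat.prime_two hq hq2 hexp (hcomm x hx m hm) (hpow x hx) (hpow m hm)
      (hall x hx hx1) (fun j _ => ?_) (hall m hm hm1)
    refine hall _ (mul_mem hx (pow_mem hm j)) fun h => hnot ?_
    rw [eq_inv_of_mul_eq_one_left h]
    exact Subgroup.inv_mem _ (Subgroup.pow_mem _ (Subgroup.mem_zpowers m) j)
  have := Fact.mk hq
  calc Nat.card M ≤ Nat.card (Subgroup.zpowers m) := Nat.card_le_card_of_injective _ (Subgroup.inclusion_injective hle)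
    _ = q := by rw [Nat.card_zpowers, orderOf_eq_prime (hpow m hm) hm1]

theorem dvd_card_sub_one {q : ℕ} (hq : q.Prime) {m : X} (hm : m ^ q = 1) (hfix : fixW f m = ⊥) (S : Subgroup W)
    (hS : ∀ w ∈ S, f m w ∈ S) : Nat.card S % q = 1 := by
  have h := card_modEq_fixW (f := f) hq hm S hS
  rw [hfix, inf_bot_eq, Subgroup.card_bot] at h
  rw [h, Nat.mod_eq_of_lt hq.one_lt]

/-- Elementary abelian groups of odd order acting in small rank. -/
theorem card_coprime_le {q : ℕ} (hq : q.Prime) (hq2 : q ≠ 2) : ∀ (a : ℕ), a ≤ 4 →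
    ∀ (W : Type) [CommGroup W] [Finite W] (β : W →* W →* ℂˣ), IsSymp β → (∀ w : W, w ^ 2 = 1) →
      Nat.card W = (2 ^ a) ^ 2 → ∀ (X : Type) [Group X] [Finite X] (f : X →* MulAut W), Function.Injective f →
        Preserves β f → (∀ x : X, x ^ q = 1) → (∀ x y : X, x * y = y * x) → Nat.card X ≤ 3 ^ a := by
  intro a
  induction a using Nat.strong_induction_on with
  | _ a ih =>
  intro ha W _ _ β hβ hexp hW X _ _ f hf hp hpow hcomm
  rcases subsingleton_or_nontrivial X with hs | hn
  · exact (Finite.card_le_one_iff_subsingleton.2 hs).trans (Nat.one_le_pow _ _ (by norm_num))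
  by_cases hall : ∀ x ∈ (⊤ : Subgroup X), x ≠ 1 → fixW f x = ⊥
  · obtain ⟨m, hm⟩ := exists_ne (1 : X)
    rcases Nat.eq_zero_or_pos a with rfl | ha0
    · norm_num at hW
      have hWs : Subsingleton W := (Nat.card_eq_one_iff_unique.1 hW).1
      have : Subsingleton (MulAut W) := ⟨fun b c => MulEquiv.ext fun w => Subsingleton.elim _ _⟩
      have hXs : Subsingleton X := hf.subsingleton
      exact absurd (Subsingleton.elim m 1) hm
    have hWn : Nontrivial W := Finite.one_lt_card_iff_nontrivial.1
      (by rw [hW]; exact Nat.one_lt_pow two_ne_zero (Nat.one_lt_pow (by omega) (by norm_num)))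
    have h1 := eq_pow_of_all_fpf hq hq2 hexp ⊤ (fun x _ => hpow x) (fun x _ y _ => hcomm x y) hall
      (Subgroup.mem_top m) hm
    rw [Subgroup.card_top] at h1
    refine h1.trans ?_
    have h2 := dvd_card_sub_one (f := f) hq (hpow m) (hall m (Subgroup.mem_top m) hm) ⊤ fun w _ => Subgroup.mem_top _
    rw [Subgroup.card_top, hW] at h2
    have hd : q ∣ (2 ^ a) ^ 2 - 1 := by
      have := Nat.div_add_mod ((2 ^ a) ^ 2) q
      exact ⟨(2 ^ a) ^ 2 / q, by omega⟩
    interval_cases a <;> norm_num at hd ⊢ <;>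
      (have := Nat.le_of_dvd (by norm_num) hd; interval_cases q <;> first | omega | exact absurd hq (by norm_num))
  · push_neg at hall
    obtain ⟨x, -, hx1, hxfix⟩ := hall
    set U := fixW f x with hUdef
    have hU : Invariant f U := fixW_invariant (hcomm x)
    have hnd : U ⊓ perp β U = ⊥ := fixW_inf_perp Nat.prime_two hq hq2 hβ hexp hp (hpow x)
    set T := perp β U
    have hprod := hβ.card_mul_card_perp U
    obtain ⟨α, hα⟩ := exists_card_eq_pow Nat.prime_two (Nat.card U) U (restrictPairing β U) le_rfl (hβ.restrict hnd)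
      fun w => Subtype.ext (hexp w)
    obtain ⟨γ, hγ⟩ := exists_card_eq_pow Nat.prime_two (Nat.card T) T (restrictPairing β T) le_rfl
      (hβ.restrict (hβ.inf_perp_perp hnd)) fun w => Subtype.ext (hexp w)
    have hsum : α + γ = a := by
      have h : 2 ^ (2 * (α + γ)) = 2 ^ (2 * a) := by
        rw [mul_comm 2 a, pow_mul 2 a, ← hW, ← hprod, hα, hγ, ← pow_mul, ← pow_mul, ← pow_add]
        congr 1
        ring
      have := Nat.pow_right_injective le_rfl h
      omega
    have hα1 : α ≠ 0 := by
      rintro rfl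
      exact hxfix (Subgroup.card_eq_one.1 (by simpa using hα))
    have hγ1 : γ ≠ 0 := by
      rintro rfl
      have hT1 : Nat.card T = 1 := by simpa using hγ
      have hUtop : U = ⊤ := Subgroup.eq_top_of_card_eq U (by rw [← hprod, hT1, mul_one])
      exact hx1 (hf ((MulEquiv.ext fun w => (mem_fixW.1 (hUtop ▸ Subgroup.mem_top w : w ∈ U))).trans (map_one f).symm))
    set ρ := resAct f hU
    set K := ρ.ker
    have h1 : Nat.card ρ.range ≤ 3 ^ α := by
      refine ih α (by omega) (by omega) U (restrictPairing β U) (hβ.restrict hnd) (fun w => Subtype.ext (hexp w)) hα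
        ρ.range ρ.range.subtype ρ.range.subtype_injective ?_ ?_ ?_
      · rintro ⟨_, y, rfl⟩ u v; exact hp y u v
      · rintro ⟨_, y, rfl⟩; exact Subtype.ext (by rw [Subgroup.coe_pow, ← map_pow, hpow, map_one, Subgroup.coe_one])
      · rintro ⟨_, y, rfl⟩ ⟨_, z, rfl⟩; exact Subtype.ext (by rw [Subgroup.coe_mul, Subgroup.coe_mul, ← map_mul, ← map_mul, hcomm])
    have h2 : Nat.card K ≤ 3 ^ γ := by
      refine ih γ (by omega) (by omega) T (restrictPairing β T) (hβ.restrict (hβ.inf_perp_perp hnd))
        (fun w => Subtype.ext (hexp w)) hγ K ((resAct f (hU.perp hp)).comp K.subtype) ?_ (fun y u v => hp y u v)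
        (fun y => Subtype.ext (by rw [Subgroup.coe_pow, hpow, Subgroup.coe_one])) fun y z => Subtype.ext (hcomm y z)
      intro y z hyz
      refine Subtype.ext (hf (MulEquiv.ext fun w => ?_))
      obtain ⟨u, hu, v, hv, rfl⟩ := hβ.sup_perp hnd w
      have h1 : f (y : X) v = f (z : X) v := congrArg (fun e : MulAut T => ((e ⟨v, hv⟩ : T) : W)) hyz
      rw [map_mul, map_mul, mem_ker_resAct.1 y.2 u hu, mem_ker_resAct.1 z.2 u hu, h1]
    rw [Subgroup.card_eq_card_quotient_mul_card_subgroup K, Nat.card_congr (QuotientGroup.quotientKerEquivRange ρ).toEquiv,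
      ← hsum, pow_add]
    exact Nat.mul_le_mul h1 h2

theorem mul_k_le (C : Subgroup X) {q : ℕ} {m : X} (hm : orderOf m = q) (hq : q.Prime)
    (hC : ∀ g, g ∈ C ↔ g * m = m * g) : q * k X ≤ (q - 1) * Nat.card C + Nat.card X := by
  classical
  let : Fintype X := Fintype.ofFinite X
  let : Fintype C := Fintype.ofFinite C
  refine Nat.le_of_mul_le_mul_right (c := Nat.card X) ?_ Nat.card_pos
  rw [mul_assoc, ← sum_centralizer, Finset.mul_sum]
  have hout : ∀ g, g ∉ C → q * Nat.card {h : X // Commute g h} ≤ Nat.card X := by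
    intro g hg
    have hinj : Function.Injective fun p : Subgroup.zpowers m × {h : X // Commute g h} => (p.1 : X) * p.2.1 := by
      rintro ⟨a, s⟩ ⟨b, t⟩ hab
      have h1 : (b : X)⁻¹ * a = t.1 * s.1⁻¹ := by
        rw [eq_mul_inv_iff_mul_eq, mul_assoc, show (a : X) * s.1 = b * t.1 from hab, inv_mul_cancel_left]
      have h2 : (b : X)⁻¹ * a ∈ Subgroup.zpowers m := Subgroup.mul_mem _ (Subgroup.inv_mem _ b.2) a.2
      have h3 : Commute g ((b : X)⁻¹ * a) := by rw [h1]; exact t.2.mul_right s.2.inv_right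
      have h4 : (b : X)⁻¹ * a = 1 := by
        by_contra h4
        have hz : Subgroup.zpowers ((b : X)⁻¹ * a) = Subgroup.zpowers m := by
          refine Subgroup.eq_of_le_of_card_ge (Subgroup.zpowers_le.2 h2) (le_of_eq ?_)
          have := Fact.mk hq
          rw [Nat.card_zpowers, Nat.card_zpowers, hm]
          refine (orderOf_eq_prime ?_ h4).symm
          obtain ⟨n, hn⟩ := h2
          rw [← show m ^ n = (b : X)⁻¹ * a from hn, ← zpow_natCast, ← zpow_mul, mul_comm, zpow_mul, zpow_natCast,
            ← hm, pow_orderOf_eq_one, one_zpow]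
        obtain ⟨n, hn⟩ := hz.ge (Subgroup.mem_zpowers m)
        exact hg ((hC g).2 (by rw [← show ((b : X)⁻¹ * a) ^ n = m from hn]; exact h3.zpow_right n))
      rw [h4] at h1
      exact Prod.ext (Subtype.ext (inv_mul_eq_one.1 h4).symm)
        (Subtype.ext (mul_inv_eq_one.1 h1.symm).symm)
    have := Nat.card_le_card_of_injective _ hinj
    rwa [Nat.card_prod, Nat.card_zpowers, hm] at this
  calc ∑ g : X, q * Nat.card {h : X // Commute g h}
      ≤ ∑ g : X, ((q - 1) * (if g ∈ C then Nat.card X else 0) + Nat.card X) := by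
        refine Finset.sum_le_sum fun g _ => ?_
        split_ifs with hg
        · rw [← Nat.succ_mul, Nat.succ_eq_add_one, Nat.sub_add_cancel hq.one_lt.le]
          exact Nat.mul_le_mul_left _ (Nat.card_le_card_of_injective _ Subtype.val_injective)
        · simpa using hout g hg
    _ = ((q - 1) * Nat.card C + Nat.card X) * Nat.card X := by
        rw [Finset.sum_add_distrib, ← Finset.mul_sum, ← Finset.sum_filter, Finset.sum_const, Finset.sum_const,
          smul_eq_mul, smul_eq_mul, Finset.card_univ, ← Fintype.card_subtype]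
        simp only [Nat.card_eq_fintype_card]
        ring

/-- The irreducible case. -/
theorem k_irred_two {N : ℕ} (ih : SympBelow 2 N) (hβ : IsSymp β) (hexp : ∀ w : W, w ^ 2 = 1)
    [Group.IsSolvable X] (hf : Function.Injective f) (hp : Preserves β f) (hN : Nat.card W ≤ N) {a : ℕ}
    (ha : a ∈ [2, 3, 4]) (hW : Nat.card W = (2 ^ a) ^ 2) (hirr : Irred f) : k X ≤ 3 ^ (2 ^ a - 1) := by
  classical
  have haS : a = 2 ∨ a = 3 ∨ a = 4 := by simpa using ha
  have hWn : Nontrivial W := Finite.one_lt_card_iff_nontrivial.1 (by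
    rw [hW]; rcases haS with rfl | rfl | rfl <;> norm_num)
  rcases subsingleton_or_nontrivial X with hs | hn
  · exact (k_le_card.trans (Finite.card_le_one_iff_subsingleton.2 hs)).trans (Nat.one_le_pow _ _ (by norm_num))
  obtain ⟨M, q, hMn, hq, hq2, hM, hpow, hcomm, hfree⟩ := exists_coprime_normal Nat.prime_two hexp hf hirr
  have hMW : Nat.card M ≤ 3 ^ a :=
    card_coprime_le hq hq2 a (by rcases haS with rfl | rfl | rfl <;> omega) W β hβ hexp hW M (f.comp M.subtype)
      (hf.comp M.subtype_injective) (fun x => hp x) (fun x => Subtype.ext (by simpa using hpow x x.2))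
      fun x y => Subtype.ext (hcomm x x.2 y y.2)
  have hclass : ∀ m ∈ M, m ≠ 1 → (Subgroup.centralizer ({m} : Set X)).index ≤ Nat.card M - 1 := by
    intro m hm hm1
    let g : X ⧸ Subgroup.centralizer ({m} : Set X) → ((M : Set X) \ {1} : Set X) := fun c =>
      Quotient.liftOn' c (fun x => ⟨x * m * x⁻¹, hMn.conj_mem m hm x, fun h => hm1 (conj_eq_one_iff.1 h)⟩)
        fun x y hxy => Subtype.ext (by
          rw [QuotientGroup.leftRel_apply, Subgroup.mem_centralizer_singleton_iff] at hxy
          calc x * m * x⁻¹ = x * (m * (x⁻¹ * y)) * y⁻¹ := by group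
            _ = x * ((x⁻¹ * y) * m) * y⁻¹ := by rw [hxy]
            _ = y * m * y⁻¹ := by group)
    refine (Nat.card_le_card_of_injective g ?_).trans (le_of_eq ?_)
    · intro c d
      induction c using Quotient.inductionOn'
      induction d using Quotient.inductionOn'
      rename_i x y
      intro h
      have h' : x * m * x⁻¹ = y * m * y⁻¹ := congrArg Subtype.val h
      refine Quotient.sound' (QuotientGroup.leftRel_apply.2 (Subgroup.mem_centralizer_singleton_iff.2 ?_))
      calc x⁻¹ * y * m = x⁻¹ * (y * m * y⁻¹) * y := by group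
        _ = m * (x⁻¹ * y) := by rw [← h']; group
    · rw [Nat.card_coe_set_eq, Set.ncard_diff_singleton_of_mem (one_mem M), ← Nat.card_coe_set_eq, SetLike.coe_sort_coe]
  by_cases hall : ∀ x ∈ M, x ≠ 1 → fixW f x = ⊥
  · -- fixed point free
    obtain ⟨m, hm, hm1⟩ : ∃ m ∈ M, m ≠ 1 := by
      by_contra h
      push_neg at h
      exact hM ((Subgroup.eq_bot_iff_forall M).2 h)
    have hmq := hpow m hm
    have hmfix := hall m hm hm1
    have hMq := eq_pow_of_all_fpf hq hq2 hexp M hpow hcomm hall hm hm1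
    have hord : orderOf m = q := by have := Fact.mk hq; exact orderOf_eq_prime hmq hm1
    set C := Subgroup.centralizer ({m} : Set X) with hCdef
    have hidx : C.index ≤ q - 1 := (hclass m hm hm1).trans (Nat.sub_le_sub_right hMq 1)
    have hCm : ∀ g, g ∈ C ↔ g * m = m * g := fun g => Subgroup.mem_centralizer_singleton_iff
    have hWmod := dvd_card_sub_one (f := f) hq hmq hmfix ⊤ fun w _ => Subgroup.mem_top _
    rw [Subgroup.card_top, hW] at hWmod
    have hdvd : q ∣ 4 ^ a - 1 := by
      rw [show 4 ^ a = (2 ^ a) ^ 2 by rw [← pow_mul, mul_comm, pow_mul]; norm_num]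
      have := Nat.div_add_mod ((2 ^ a) ^ 2) q
      exact ⟨(2 ^ a) ^ 2 / q, by omega⟩
    obtain ⟨v, U, hv, hvU, hβv, hUm, hUc, hUfix⟩ := exists_frame Nat.prime_two hq hq2 rfl hβ hexp hp hmq hmfix
    have hsurjU : ∀ b ∈ U, ∃ b' ∈ U, f m b' = b := by
      intro b hb
      let t : U → U := fun z => ⟨f m z, hUm z z.2⟩
      have ht : Function.Injective t := fun y z h => Subtype.ext ((f m).injective (congrArg Subtype.val h))
      obtain ⟨z, hz⟩ := (Finite.injective_iff_surjective.1 ht) ⟨b, hb⟩
      exact ⟨z, z.2, congrArg Subtype.val hz⟩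
    have hTm : ∀ w ∈ perp β U, f m w ∈ perp β U := by
      intro w hw b hb
      obtain ⟨b', hb', rfl⟩ := hsurjU b hb
      rw [hp]
      exact hw b' hb'
    obtain ⟨d, -, hd⟩ := (Nat.dvd_prime_pow Nat.prime_two).1
      (show Nat.card U ∣ 2 ^ (a * 2) by rw [pow_mul, ← hW]; exact U.card_subgroup_dvd_card)
    obtain ⟨j, -, hj⟩ := (Nat.dvd_prime_pow Nat.prime_two).1
      (show Nat.card (U ⊓ perp β U : Subgroup W) ∣ 2 ^ (a * 2) by rw [pow_mul, ← hW]; exact Subgroup.card_subgroup_dvd_card _)
    have hnd : U ⊓ perp β U = ⊥ := by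
      rw [← Subgroup.card_eq_one, hj]
      have hjd : j < d := by
        rw [← Nat.pow_lt_pow_iff_right (by norm_num : 1 < 2), ← hj, ← hd]
        refine lt_of_le_of_ne (Nat.card_le_card_of_injective _ (Subgroup.inclusion_injective inf_le_left)) fun h => ?_
        have heq : U ⊓ perp β U = U := Subgroup.eq_of_le_of_card_ge inf_le_left h.ge
        exact hβv ((inf_eq_left.1 heq) hvU _ (hUm v hvU))
      have hsum : j + d ≤ 2 * a := by
        rw [← Nat.pow_le_pow_iff_right (by norm_num : 1 < 2), pow_add, ← hj, ← hd, mul_comm 2 a, pow_mul, ← hW,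
          ← hβ.card_mul_card_perp U, mul_comm]
        exact Nat.mul_le_mul_left _ (Nat.card_le_card_of_injective _ (Subgroup.inclusion_injective inf_le_right))
      have hd' : d ≤ q - 1 := by
        rw [← Nat.pow_le_pow_iff_right (by norm_num : 1 < 2), ← hd]; exact hUc
      rw [radical_eq_bot hq hq2 ha hdvd hjd hd' hsum
        (hj ▸ dvd_card_sub_one (f := f) hq hmq hmfix _ fun w hw => ⟨hUm w hw.1, hTm w hw.2⟩)
        (hd ▸ dvd_card_sub_one (f := f) hq hmq hmfix U hUm), pow_zero]
    obtain ⟨α, hα⟩ := exists_card_eq_pow Nat.prime_two (Nat.card U) U (restrictPairing β U) le_rfl (hβ.restrict hnd)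
      fun w => Subtype.ext (hexp w)
    have hα1 : 1 ≤ α := by
      by_contra h
      rw [show α = 0 by omega] at hα
      exact hv (Subgroup.mem_bot.1 ((Subgroup.card_eq_one.1 (by simpa using hα)) ▸ hvU))
    set g : C →* MulAut W := f.comp C.subtype with hgdef
    set Cv : Subgroup C := stab g v with hCv
    have hCfix : ∀ c ∈ Cv, ∀ u ∈ U, g c u = u := by
      intro c hc
      refine hUfix (g c) hc fun i => ?_
      show f (c : X) (f (m ^ i) v) = f (m ^ i) (f (c : X) v)
      rw [← MulAut.mul_apply, ← map_mul, (Commute.pow_right ((hCm c).1 c.2 : Commute (c : X) m) i).eq, map_mul,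
        MulAut.mul_apply]
    have hidxv : Cv.index ≤ (2 ^ a) ^ 2 - 1 := hW ▸ index_stab_le_card_sub_one g hv
    have hXC : Nat.card X ≤ (q - 1) * Nat.card C := by
      rw [← C.index_mul_card]; exact Nat.mul_le_mul_right _ hidx
    have hCCv : Nat.card C ≤ ((2 ^ a) ^ 2 - 1) * Nat.card Cv := by
      rw [← Cv.index_mul_card]; exact Nat.mul_le_mul_right _ hidxv
    -- the orthogonal subgroup
    let Y : Subgroup X :=
      { carrier := {x | (∀ w ∈ perp β U, f x w ∈ perp β U)}
        one_mem' := fun w hw => by simpa using hw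
        mul_mem' := fun {x y} hx hy w hw => by rw [map_mul, MulAut.mul_apply]; exact hx _ (hy _ hw)
        inv_mem' := fun {x} hx w hw => by
          let t : perp β U → perp β U := fun z => ⟨f x z, hx z z.2⟩
          have ht : Function.Injective t := fun y z h => Subtype.ext ((f x).injective (congrArg Subtype.val h))
          obtain ⟨z, hz⟩ := (Finite.injective_iff_surjective.1 ht) ⟨w, hw⟩
          rw [map_inv, ← show f x z = w from congrArg Subtype.val hz, MulAut.inv_apply_self]
          exact z.2 }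
    have hCvY : ∀ c ∈ Cv, ((c : C) : X) ∈ Y := by
      intro c hc w hw u hu
      rw [← hCfix c hc u hu]
      exact (hp _ _ _).trans (hw u hu)
    have hY : Invariant (f.comp Y.subtype) (perp β U) := fun y w hw => y.2 w hw
    let fT : Y →* MulAut (perp β U) := resAct (f.comp Y.subtype) hY
    have hfT : Preserves (restrictPairing β (perp β U)) fT := fun y u w => hp y u w
    let ι : Cv →* Y := (C.subtype.comp Cv.subtype).codRestrict Y fun c => hCvY c c.2
    have hιinj : Function.Injective (fT.comp ι) := by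
      intro c d hcd
      refine Subtype.ext (Subtype.ext (hf (MulEquiv.ext fun w => ?_)))
      obtain ⟨u, hu, z, hz, rfl⟩ := hβ.sup_perp hnd w
      have h1 : f ((c : C) : X) z = f ((d : C) : X) z :=
        congrArg (fun e : MulAut (perp β U) => ((e ⟨z, hz⟩ : perp β U) : W)) hcd
      rw [map_mul, map_mul, h1]
      show g (c : C) u * _ = g (d : C) u * _
      rw [hCfix c c.2 u hu, hCfix d d.2 u hu]
    have hprodW := hβ.card_mul_card_perp U
    obtain ⟨γ, hγ⟩ := exists_card_eq_pow Nat.prime_two (Nat.card (perp β U)) (perp β U) (restrictPairing β (perp β U))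
      le_rfl (hβ.restrict (hβ.inf_perp_perp hnd)) fun w => Subtype.ext (hexp w)
    have hαγ : α + γ = a := by
      have h : 2 ^ (2 * (α + γ)) = 2 ^ (2 * a) := by
        rw [mul_comm 2 a, pow_mul 2 a, ← hW, ← hprodW, hα, hγ, ← pow_mul, ← pow_mul, ← pow_add]
        congr 1
        ring
      have := Nat.pow_right_injective le_rfl h
      omega
    have hdα : d = 2 * α := by
      have h : 2 ^ d = 2 ^ (2 * α) := by rw [← hd, hα, ← pow_mul, mul_comm]
      exact Nat.pow_right_injective le_rfl h
    have hq' : q = 3 ∨ q = 5 ∨ q = 7 ∨ q = 17 := by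
      rcases haS with rfl | rfl | rfl <;> norm_num at hdvd <;>
        (have := Nat.le_of_dvd (by norm_num) hdvd; interval_cases q <;> first | omega | exact absurd hq (by norm_num))
    have hdmod : 2 ^ d % q = 1 := hd ▸ dvd_card_sub_one (f := f) hq hmq hmfix U hUm
    have hdq : d ≤ q - 1 := by rw [← Nat.pow_le_pow_iff_right (by norm_num : 1 < 2), ← hd]; exact hUc
    rcases haS with rfl | rfl | rfl
    · -- rank two
      have hC : q = 5 ∧ Nat.card C ≤ 15 ∨ q = 3 ∧ Nat.card C ≤ 18 := by
        norm_num at hdvd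
        rcases hq' with rfl | rfl | rfl | rfl <;> norm_num at hdvd
        · refine Or.inr ⟨rfl, card_le_eighteen hβ hexp (by rw [hW]; norm_num) hp hmq hmfix C
            (hf.comp C.subtype_injective) fun c hc => (hCm c).1 hc⟩
        · refine Or.inl ⟨rfl, ?_⟩
          have hγ0 : γ = 0 := by
            have hα2 : α ≤ 2 := by omega
            interval_cases α <;> norm_num [hdα] at hdmod <;> omega
          have hT1 : Nat.card (perp β U) = 1 := by rw [hγ, hγ0]; norm_num
          have hTs : Subsingleton (perp β U) := (Nat.card_eq_one_iff_unique.1 hT1).1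
          have : Subsingleton (MulAut (perp β U)) := ⟨fun b c => MulEquiv.ext fun w => Subsingleton.elim _ _⟩
          have hCv1 : Nat.card Cv ≤ 1 := Finite.card_le_one_iff_subsingleton.2 hιinj.subsingleton
          calc Nat.card C ≤ ((2 ^ 2) ^ 2 - 1) * Nat.card Cv := hCCv
            _ ≤ 15 := (Nat.mul_le_mul_left _ hCv1).trans (by norm_num)
      have hkey := mul_k_le C hord hq hCm
      rcases hC with ⟨rfl, hC⟩ | ⟨rfl, hC⟩ <;> norm_num at hkey hXC ⊢ <;> omega
    · -- rank three
      norm_num at hdvd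
      rcases hq' with rfl | rfl | rfl | rfl <;> norm_num at hdvd
      · -- order three
        have hα' : α = 1 := by omega
        have hγ2 : γ = 2 := by omega
        subst hγ2
        have hmY : m ∈ Y := hTm
        have hCv18 : Nat.card Cv ≤ 18 := by
          have h18 := card_le_eighteen (W := perp β U) (β := restrictPairing β (perp β U)) (X := Y) (f := fT)
            (hβ.restrict (hβ.inf_perp_perp hnd)) (fun w => Subtype.ext (hexp w)) (by rw [hγ]; norm_num) hfT
            (m := ⟨m, hmY⟩) (Subtype.ext hmq) ?_ ι.range ?_ ?_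
          · exact (Nat.card_congr (MonoidHom.ofInjective (f := ι) fun c d h => hιinj (congrArg fT h)).toEquiv).trans_le h18
          · rw [Subgroup.eq_bot_iff_forall]
            intro w hw
            have h1 : (w : W) ∈ fixW f m := congrArg Subtype.val hw
            rw [hmfix, Subgroup.mem_bot] at h1
            exact Subtype.ext h1
          · rintro ⟨_, c, rfl⟩ ⟨_, d, rfl⟩ h
            exact Subtype.ext (congrArg ι (hιinj h))
          · rintro _ ⟨c, rfl⟩
            exact Subtype.ext ((hCm _).1 (c : C).2)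
        have hX : Nat.card X ≤ 2268 :=
          hXC.trans ((Nat.mul_le_mul_left _ (hCCv.trans (Nat.mul_le_mul_left _ hCv18))).trans (by norm_num))
        have h8 := eight_k_le_of_irred hf hirr
        rw [hW] at h8
        norm_num at h8 ⊢
        omega
      · -- order seven
        have hγ0 : γ = 0 := by
          have hα3 : α ≤ 3 := by omega
          interval_cases α <;> norm_num [hdα] at hdmod <;> omega
        have hT1 : Nat.card (perp β U) = 1 := by rw [hγ, hγ0]; norm_num
        have hTs : Subsingleton (perp β U) := (Nat.card_eq_one_iff_unique.1 hT1).1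
        have : Subsingleton (MulAut (perp β U)) := ⟨fun b c => MulEquiv.ext fun w => Subsingleton.elim _ _⟩
        have hCv1 : Nat.card Cv ≤ 1 := Finite.card_le_one_iff_subsingleton.2 hιinj.subsingleton
        refine k_le_card.trans (hXC.trans ?_)
        exact (Nat.mul_le_mul_left _ (hCCv.trans (Nat.mul_le_mul_left _ hCv1))).trans (by norm_num)
    · -- rank four
      have hsolC : Group.IsSolvable Cv := inferInstance
      have hkv : k Cv ≤ 3 ^ (2 ^ γ - 1) :=
        ih (perp β U) (restrictPairing β (perp β U)) (hβ.restrict (hβ.inf_perp_perp hnd))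
          (fun w => Subtype.ext (hexp w)) (by
            refine lt_of_lt_of_le ?_ hN
            rw [hγ, hW]
            exact Nat.pow_lt_pow_left (Nat.pow_lt_pow_right (by norm_num) (by omega)) two_ne_zero)
          Cv hsolC (fT.comp ι) hιinj (fun c => hfT (ι c)) _ hγ
      have hkv' : k Cv ≤ 2187 := hkv.trans (by
        have : γ ≤ 3 := by omega
        interval_cases γ <;> norm_num)
      have hq17 : q - 1 ≤ 16 := by omega
      refine (card_le_index_mul C).trans ((Nat.mul_le_mul (hidx.trans hq17)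
        ((card_le_index_mul Cv).trans (Nat.mul_le_mul hidxv hkv'))).trans (by norm_num))
  · -- a fixed point
    push_neg at hall
    obtain ⟨m, hm, hm1, hfix⟩ := hall
    set U := fixW f m with hUdef
    have hnd : U ⊓ perp β U = ⊥ := fixW_inf_perp Nat.prime_two hq hq2 hβ hexp hp (hpow m hm)
    have hne' : U ≠ ⊤ := fun h => hm1 (hf ((MulEquiv.ext fun w =>
      (mem_fixW.1 (h ▸ Subgroup.mem_top w : w ∈ U))).trans (map_one f).symm))
    set C := Subgroup.centralizer ({m} : Set X) with hCdef
    have hUinv : Invariant (f.comp C.subtype) U := fun c u hu => by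
      show f m (f (c : X) u) = f (c : X) u
      rw [← MulAut.mul_apply, ← map_mul, ← Subgroup.mem_centralizer_singleton_iff.1 c.2, map_mul, MulAut.mul_apply,
        mem_fixW.1 hu]
    obtain ⟨α, γ, hαγ, hα1, hγ1, hUcard, hkC⟩ := k_le_of_nondeg ih Nat.prime_two hβ hexp (f := f.comp C.subtype)
      (hf.comp C.subtype_injective) (fun c => hp c) hN U hUinv hnd hfix hne' hW
    rcases haS with rfl | rfl | rfl
    · -- rank two: two orthogonal planes
      have hα' : α = 1 := by omega
      subst hα'
      have hU4 : Nat.card U = 4 := by rw [hUcard]; norm_num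
      set T := perp β U with hT
      have hT4 : Nat.card T = 4 := by
        have := hβ.card_mul_card_perp U
        rw [hU4, hW] at this
        rw [hT]
        omega
      have hMU : ∀ x ∈ M, ∀ u ∈ U, f x u ∈ U := fun x hx u hu => by
        rw [hUdef, mem_fixW, ← MulAut.mul_apply, ← map_mul, hcomm m hm x hx, map_mul, MulAut.mul_apply,
          mem_fixW.1 hu]
      have hMT : ∀ x ∈ M, ∀ w ∈ T, f x w ∈ T := by
        intro x hx w hw u hu
        have h1 := hw (f x⁻¹ u) (hMU _ (inv_mem hx) u hu)
        rw [← hp x, map_inv, MulAut.apply_inv_self] at h1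
        exact h1
      have hclosed : ∀ P : Subgroup W, (∀ x ∈ M, ∀ u ∈ P, f x u ∈ P) → Nat.card P ≠ 2 := by
        intro P hP hc
        obtain ⟨z, y, hzy, huniv⟩ := Nat.card_eq_two_iff.1 hc
        have key : ∀ s t : P, s ≠ 1 → t ≠ 1 → s = t := by
          intro s t hs ht
          have h6 : ∀ y' : P, y' = z ∨ y' = y := fun y' => by
            have h7 : y' ∈ ({z, y} : Set P) := huniv ▸ Set.mem_univ y'
            simpa using h7
          rcases h6 s, h6 t, h6 1 with ⟨rfl | rfl, rfl | rfl, h8 | h8⟩ <;> simp_all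
        obtain ⟨s, hs⟩ : ∃ s : P, s ≠ 1 := by
          by_contra hh
          push_neg at hh
          exact hzy ((hh z).trans (hh y).symm)
        refine hs (Subtype.ext (hfree s fun x hx => ?_))
        exact congrArg Subtype.val (key ⟨f x s, hP x hx s s.2⟩ s
          (fun h => hs (Subtype.ext ((f x).map_eq_one_iff.1 (congrArg Subtype.val h)))) hs)
      have himg : ∀ x : X, U.map (f x).toMonoidHom = U ∨ U.map (f x).toMonoidHom = T := by
        intro x
        set m' := x * m * x⁻¹ with hm'
        have hm'M : m' ∈ M := hMn.conj_mem m hm x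
        set P := U.map (f x).toMonoidHom with hP
        have hP4 : Nat.card P = 4 := by
          rw [← Nat.card_congr (U.equivMapOfInjective _ (f x).injective).toEquiv, hU4]
        have hPm : ∀ y ∈ M, ∀ u ∈ P, f y u ∈ P := by
          rintro y hy _ ⟨u, hu, rfl⟩
          refine ⟨f (x⁻¹ * y * x) u, hMU _ (by simpa using hMn.conj_mem y hy x⁻¹) u hu, ?_⟩
          show f x (f (x⁻¹ * y * x) u) = f y (f x u)
          rw [← MulAut.mul_apply, ← map_mul, ← MulAut.mul_apply, ← map_mul]
          congr 2
          group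
        have hPT : P ⊓ T = ⊥ ∨ P = T := by
          have hdv : Nat.card (P ⊓ T : Subgroup W) ∣ 4 :=
            hP4 ▸ Subgroup.card_dvd_of_le (inf_le_left : P ⊓ T ≤ P)
          have hne2 := hclosed (P ⊓ T) fun y hy u hu => ⟨hPm y hy u hu.1, hMT y hy u hu.2⟩
          have hle := Nat.le_of_dvd (by norm_num) hdv
          interval_cases h : Nat.card (P ⊓ T : Subgroup W) <;> try omega
          · exact Or.inl (Subgroup.card_eq_one.1 h)
          · refine Or.inr ?_
            have e1 : P ⊓ T = P := Subgroup.eq_of_le_of_card_ge inf_le_left (by rw [h, hP4])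
            exact Subgroup.eq_of_le_of_card_ge (inf_eq_left.1 e1) (by rw [hP4, hT4])
        rcases hPT with h0 | h0
        · left
          refine Subgroup.eq_of_le_of_card_ge (fun z hz => ?_) (by rw [hP4, hU4])
          obtain ⟨a, ha, b, hb, rfl⟩ := hβ.sup_perp hnd z
          have h1 : f m b * b⁻¹ ∈ P ⊓ T := by
            refine Subgroup.mem_inf.2 ⟨?_, mul_mem (hMT m hm b hb) (inv_mem hb)⟩
            have h2 : f m (a * b) * (a * b)⁻¹ ∈ P := mul_mem (hPm m hm _ hz) (inv_mem hz)
            rwa [map_mul, mem_fixW.1 ha, mul_inv_rev, ← mul_assoc, mul_comm _ a⁻¹, mul_assoc a, inv_mul_cancel_left] at h2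
          rw [h0, Subgroup.mem_bot, mul_inv_eq_one] at h1
          have hb1 : b ∈ (⊥ : Subgroup W) := hnd.le ⟨h1, hb⟩
          rw [Subgroup.mem_bot] at hb1
          rw [hb1, mul_one]
          exact ha
        · exact Or.inr h0
      let S : Subgroup X :=
        { carrier := {x | U.map (f x).toMonoidHom = U}
          one_mem' := by
            show U.map (f 1).toMonoidHom = U
            rw [map_one]; exact Subgroup.map_id U
          mul_mem' := fun {x y} hx hy => by
            show U.map (f (x * y)).toMonoidHom = U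
            rw [map_mul, show (f x * f y).toMonoidHom = (f x).toMonoidHom.comp (f y).toMonoidHom from rfl,
              ← Subgroup.map_map, show U.map (f y).toMonoidHom = U from hy, show U.map (f x).toMonoidHom = U from hx]
          inv_mem' := fun {x} hx => by
            show U.map (f x⁻¹).toMonoidHom = U
            conv_lhs => rw [← show U.map (f x).toMonoidHom = U from hx]
            rw [Subgroup.map_map, show (f x⁻¹).toMonoidHom.comp (f x).toMonoidHom = (f (x⁻¹ * x)).toMonoidHom by
              rw [map_mul]; rfl, inv_mul_cancel, map_one]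
            exact Subgroup.map_id U }
      have hSidx : S.index ≤ 2 := by
        have key : ∀ x y : X, x ∉ S → y ∉ S → x⁻¹ * y ∈ S := by
          intro x y hx hy
          have h1 := (himg x).resolve_left hx
          have h2 := (himg y).resolve_left hy
          show U.map (f (x⁻¹ * y)).toMonoidHom = U
          rw [map_mul, show (f x⁻¹ * f y).toMonoidHom = (f x⁻¹).toMonoidHom.comp (f y).toMonoidHom from rfl,
            ← Subgroup.map_map, h2, ← h1, Subgroup.map_map,
            show (f x⁻¹).toMonoidHom.comp (f x).toMonoidHom = (f (x⁻¹ * x)).toMonoidHom by rw [map_mul]; rfl,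
            inv_mul_cancel, map_one]
          exact Subgroup.map_id U
        refine (Nat.card_le_card_of_injective (fun c : X ⧸ S => decide (c = QuotientGroup.mk 1)) ?_).trans (by simp)
        intro c d hcd
        obtain ⟨x, rfl⟩ := QuotientGroup.mk_surjective c
        obtain ⟨y, rfl⟩ := QuotientGroup.mk_surjective d
        have hcd' : (QuotientGroup.mk x : X ⧸ S) = QuotientGroup.mk 1 ↔ (QuotientGroup.mk y : X ⧸ S) = QuotientGroup.mk 1 := by
          simpa using hcd
        have hiff : ∀ z : X, (QuotientGroup.mk z : X ⧸ S) = QuotientGroup.mk 1 ↔ z ∈ S := fun z => by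
          rw [QuotientGroup.eq, mul_one, inv_mem_iff]
        rw [hiff, hiff] at hcd'
        by_cases hx : x ∈ S
        · exact ((hiff x).2 hx).trans ((hiff y).2 (hcd'.1 hx)).symm
        · exact QuotientGroup.eq.2 (key x y hx fun hy => hx (hcd'.2 hy))
      have hSU : Invariant (f.comp S.subtype) U := fun x u hu =>
        (show U.map (f (x : X)).toMonoidHom = U from x.2).le ⟨u, hu, rfl⟩
      obtain ⟨α', γ', hs, h1, h2, -, hkS⟩ := k_le_of_nondeg ih Nat.prime_two hβ hexp (f := f.comp S.subtype)
        (hf.comp S.subtype_injective) (fun c => hp c) hN U hSU hnd hfix hne' hW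
      have : α' = 1 ∧ γ' = 1 := by omega
      obtain ⟨rfl, rfl⟩ := this
      refine (card_le_index_mul S).trans ((Nat.mul_le_mul hSidx hkS).trans (by norm_num))
    · have hb : k C ≤ 81 := hkC.trans (by
        have hcases : α = 1 ∧ γ = 2 ∨ α = 2 ∧ γ = 1 := by omega
        rcases hcases with ⟨rfl, rfl⟩ | ⟨rfl, rfl⟩ <;> norm_num)
      refine (card_le_index_mul C).trans ((Nat.mul_le_mul
        ((hclass m hm hm1).trans (Nat.sub_le_sub_right hMW 1)) hb).trans (by norm_num))
    · have hb : k C ≤ 6561 := hkC.trans (by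
        have hcases : α = 1 ∧ γ = 3 ∨ α = 2 ∧ γ = 2 ∨ α = 3 ∧ γ = 1 := by omega
        rcases hcases with ⟨rfl, rfl⟩ | ⟨rfl, rfl⟩ | ⟨rfl, rfl⟩ <;> norm_num)
      refine (card_le_index_mul C).trans ((Nat.mul_le_mul
        ((hclass m hm hm1).trans (Nat.sub_le_sub_right hMW 1)) hb).trans (by norm_num))

end CfsgLib.SolvClasses
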